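import Cfsg.Agent.TwoGroups.WreathedSubgroups
import Cfsg.Agent.TwoGroups.SemidihedralSubgroups

/-!
# Quaternion normal subgroups of quasi-dihedral and wreathed groups
-/

set_option autoImplicit false
set_option linter.unusedSectionVars false

namespace CfsgLib.GWQuasi

open Subgroup CfsgLib.TwoGroups

variable {S : Type*} [Group S]

/-- A normal non-abelian subgroup, over an abelian subgroup of index two. -/
theorem facts_of_abelian_base (A : Subgroup S) (hA : ∀ a ∈ A, ∀ b ∈ A, Commute a b)
    (hA2 : A.index = 2) (Q : Subgroup S) [Q.Normal]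
    (hQ : ∃ q ∈ Q, ∃ q' ∈ Q, ¬ Commute q q') :
    commutator S ≤ Q ∧ centralizer (Q : Set S) ≤ center S := by
  obtain ⟨u, huQ, huA⟩ : ∃ u ∈ Q, u ∉ A := by
    by_contra h
    push Not at h
    obtain ⟨q, hq, q', hq', hne⟩ := hQ
    exact hne (hA q (h q hq) q' (h q' hq'))
  have dec : ∀ s : S, s ∉ A → s * u⁻¹ ∈ A := fun s hs =>
    (mul_mem_iff_of_index_two hA2).2 (by simp [hs, huA])
  refine ⟨?_, ?_⟩
  · rw [commutator_def, commutator_le]
    intro g _ h _
    rw [← QuotientGroup.eq_one_iff, ← QuotientGroup.mk'_apply, map_commutatorElement,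
      commutatorElement_eq_one_iff_commute]
    have key : ∀ s : S, ∃ a ∈ A, QuotientGroup.mk' Q s = QuotientGroup.mk' Q a := by
      intro s
      by_cases hs : s ∈ A
      · exact ⟨s, hs, rfl⟩
      · refine ⟨_, dec s hs, ?_⟩
        have hu : QuotientGroup.mk' Q u = 1 := (QuotientGroup.eq_one_iff u).2 huQ
        rw [map_mul, map_inv, hu, inv_one, mul_one]
    obtain ⟨a, ha, ea⟩ := key g
    obtain ⟨b, hb, eb⟩ := key h
    rw [ea, eb]
    exact (hA a ha b hb).map _
  · intro g hg
    have hgu : Commute g u := (mem_centralizer_iff.1 hg u huQ).symm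
    by_cases hgA : g ∈ A
    · refine mem_center_iff.2 fun s => ?_
      by_cases hs : s ∈ A
      · exact (hA s hs g hgA).eq
      · have := ((hA _ (dec s hs) g hgA).mul_left hgu.symm)
        rw [inv_mul_cancel_right] at this
        exact this.eq
    · exfalso
      -- the elements of `Q ∩ A` are central
      have hc : ∀ c ∈ Q, c ∈ A → ∀ s, Commute c s := by
        intro c hcQ hcA s
        by_cases hs : s ∈ A
        · exact hA c hcA s hs
        · have hsg : s * g⁻¹ ∈ A := (mul_mem_iff_of_index_two hA2).2 (by simp [hs, hgA])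
          have := (hA c hcA _ hsg).mul_right (mem_centralizer_iff.1 hg c hcQ : Commute c g)
          rwa [inv_mul_cancel_right] at this
      obtain ⟨q, hq, q', hq', hne⟩ := hQ
      have main : ∀ q ∈ Q, Commute q u := by
        intro q hq
        by_cases hqA : q ∈ A
        · exact hc q hq hqA u
        · have := (hc _ (mul_mem hq (inv_mem huQ)) (dec q hqA) u).mul_left (Commute.refl u)
          rwa [inv_mul_cancel_right] at this
      refine hne ?_
      by_cases hqA : q ∈ A
      · exact hc q hq hqA q'
      · have := (hc _ (mul_mem hq (inv_mem huQ)) (dec q hqA) q').mul_left (main q' hq').symm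
        rwa [inv_mul_cancel_right] at this

/-- The facts used about the Sylow subgroup `S` and the quaternion subgroup `Q`. -/
theorem sylow_facts [Finite S] (hS : Cfsg.IsQuasiDihedral S ∨ Cfsg.IsWreathed S) (Q : Subgroup S)
    [Q.Normal] {m : ℕ} (hm : 2 ≤ m) (e : Q ≃* QuaternionGroup m) :
    (commutator S ≤ Q ∧ centralizer (Q : Set S) ≤ center S) ∧ (∃ g : S, g * g ∉ center S) ∧
      (4 ≤ m → ∃ g : S, g * g * (g * g) ∉ center S) := by
  haveI : NeZero m := ⟨by omega⟩
  have hQna : ∃ q ∈ Q, ∃ q' ∈ Q, ¬ Commute q q' := by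
    refine ⟨_, (e.symm (.a 1)).2, _, (e.symm (.xa 0)).2, fun h => quaternionGroup_not_comm hm ?_⟩
    apply e.symm.injective
    apply Subtype.ext
    rw [map_mul, map_mul]
    exact h.eq
  rcases hS with hS | hS
  · obtain ⟨n, x, y, d⟩ := exists_sdPair hS
    have hn := d.le
    refine ⟨facts_of_abelian_base (zpowers x) ?_ d.index_zpowers Q hQna, ?_, ?_⟩
    · rintro _ ⟨i, rfl⟩ _ ⟨j, rfl⟩
      exact Commute.zpow_zpow_self x i j
    · refine ⟨x, fun h => ?_⟩
      have h1 := mem_center_iff.1 h y
      have h2 : y * x ^ (2 : ℤ) * y⁻¹ = x ^ (2 : ℤ) := by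
        rw [zpow_two]; exact mul_inv_eq_iff_eq_mul.2 h1
      rw [d.conj_y, d.zpow_eq] at h2
      have h4 : (4 : ℤ) ∣ hh n := by
        rw [hh, show (4 : ℤ) = 2 ^ 2 by norm_num]; exact pow_dvd_pow 2 (by omega)
      obtain ⟨a, ha⟩ := h4
      obtain ⟨b, hb⟩ := h2
      rw [ha] at hb
      have : (4 : ℤ) = 8 * (a * b) + 8 * a := by linarith
      generalize a * b = c at this
      omega
    · intro hm4
      rcases eq_or_lt_of_le hn with rfl | hn4
      · -- `|S| = 16`, so `S` would be quaternion
        exfalso
        have hQc : Nat.card Q = 4 * m := by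
          rw [Nat.card_congr e.toEquiv, Nat.card_eq_fintype_card, QuaternionGroup.card]
        have hle := Subgroup.card_le_card_group Q
        rw [d.card, hQc] at hle
        have hQ : Q = ⊤ := Subgroup.eq_top_of_le_card Q (by rw [d.card, hQc]; omega)
        have hy2 := d.y_mul_y
        have hyz : (⟨y, hQ ▸ mem_top y⟩ : Q) = ⟨x ^ hh 3, hQ ▸ mem_top _⟩ := by
          apply e.injective
          apply quaternionGroup_unique_invol
          · rw [← map_mul]; exact (congrArg e (Subtype.ext hy2)).trans (map_one e)
          · rw [ne_eq, MulEquiv.map_eq_one_iff]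
            exact fun h => d.y_notMem (by rw [show y = 1 from congrArg Subtype.val h]; exact one_mem _)
          · rw [← map_mul]; exact (congrArg e (Subtype.ext d.z_sq)).trans (map_one e)
          · rw [ne_eq, MulEquiv.map_eq_one_iff]
            exact fun h => d.z_ne_one (congrArg Subtype.val h)
        exact d.y_notMem (by rw [show y = x ^ hh 3 from congrArg Subtype.val hyz];
                             exact zpow_mem_zpowers _ _)
      refine ⟨x, fun h => ?_⟩
      have h1 := mem_center_iff.1 h y
      have h2 : y * x ^ (4 : ℤ) * y⁻¹ = x ^ (4 : ℤ) := by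
        rw [show (4 : ℤ) = 2 + 2 from rfl, zpow_add, zpow_two]
        exact mul_inv_eq_iff_eq_mul.2 h1
      rw [d.conj_y, d.zpow_eq] at h2
      have h8 : (8 : ℤ) ∣ hh n := by
        rw [hh, show (8 : ℤ) = 2 ^ 3 by norm_num]; exact pow_dvd_pow 2 (by omega)
      obtain ⟨a, ha⟩ := h8
      obtain ⟨b, hb⟩ := h2
      rw [ha] at hb
      have : (8 : ℤ) = 16 * (a * b) + 32 * a := by linarith
      generalize a * b = c at this
      omega
  · obtain ⟨n, x, y, z, d⟩ := exists_wrTriple hS
    have hn := d.le
    refine ⟨facts_of_abelian_base d.base ?_ d.index_base Q hQna, ?_, ?_⟩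
    · intro a ha b hb
      obtain ⟨i, j, rfl⟩ := d.mem_base.1 ha
      obtain ⟨k, l, rfl⟩ := d.mem_base.1 hb
      exact d.commute_el_el i j k l
    · refine ⟨el x y 1 0, fun h => ?_⟩
      rw [d.el_mul] at h
      have h2 := (d.commute_el_elz (c := 0) (e := 0)).1 (mem_center_iff.1 h _).symm
      have h4 : (4 : ℤ) ∣ nn n := by
        rw [nn, show (4 : ℤ) = 2 ^ 2 by norm_num]; exact pow_dvd_pow 2 (by omega)
      have := h4.trans h2
      norm_num at this
    · intro hm4
      rcases eq_or_lt_of_le hn with rfl | hn3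
      · exfalso
        set c : S := ((e.symm (.a 1) : Q) : S) with hc
        have hval : ∀ i : ℕ, c ^ i = ((e.symm (.a (i : ZMod (2 * m))) : Q) : S) := fun i => by
          rw [hc, ← Subgroup.coe_pow, ← map_pow, QuaternionGroup.a_one_pow]
        have hne : ∀ i : ℕ, 0 < i → i < 2 * m → c ^ i ≠ 1 := fun i hi hi2 h => by
          rw [hval] at h
          have h' : (QuaternionGroup.a (i : ZMod (2 * m)) : QuaternionGroup m) = 1 := by
            apply e.symm.injective
            apply Subtype.ext
            simpa using h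
          rw [QuaternionGroup.one_def, QuaternionGroup.a.injEq, ZMod.natCast_eq_zero_iff] at h'
          exact absurd (Nat.le_of_dvd hi h') (by omega)
        have hc2 : c ^ 2 ∉ center S := fun h => by
          have h1 := mem_center_iff.1 h ((e.symm (.xa 0) : Q) : S)
          rw [hval] at h1
          have h2 : (.xa 0 * .a ((2 : ℕ) : ZMod (2 * m)) : QuaternionGroup m) =
              .a ((2 : ℕ) : ZMod (2 * m)) * .xa 0 := by
            apply e.symm.injective
            apply Subtype.ext
            rw [map_mul, map_mul]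
            exact h1
          simp only [QuaternionGroup.a_mul_xa, QuaternionGroup.xa_mul_a,
            QuaternionGroup.xa.injEq] at h2
          have h3 : ((4 : ℕ) : ZMod (2 * m)) = 0 := by
            push_cast at h2 ⊢
            linear_combination h2
          rw [ZMod.natCast_eq_zero_iff] at h3
          exact absurd (Nat.le_of_dvd (by norm_num) h3) (by omega)
        obtain ⟨a, b, h | h⟩ := d.eq_cases c
        · refine hne 4 (by norm_num) (by omega) ?_
          rw [h, ← zpow_natCast, d.el_zpow, d.el_eq_one]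
          exact ⟨⟨a, by simp [nn]; ring⟩, ⟨b, by simp [nn]; ring⟩⟩
        · exact hc2 (d.mem_center_iff.2 ⟨a + b, b + a,
            by rw [h, sq, d.elz_mul_elz], by ring_nf; exact dvd_zero _⟩)
      refine ⟨el x y 1 0, fun h => ?_⟩
      rw [d.el_mul, d.el_mul] at h
      have h2 := (d.commute_el_elz (c := 0) (e := 0)).1 (mem_center_iff.1 h _).symm
      have h8 : (8 : ℤ) ∣ nn n := by
        rw [nn, show (8 : ℤ) = 2 ^ 3 by norm_num]; exact pow_dvd_pow 2 (by omega)
      have := h8.trans h2
      norm_num at this

end CfsgLib.GWQuasi
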