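import Cfsg.Agent.GWQuasi.Basic
import Cfsg.Agent.GWQuasi.TwoGroup
import Cfsg.Agent.FusionMetaSuper.Models
import Cfsg.Agent.S0201
import Cfsg.Agent.S0251

/-!
# Groups with quaternion Sylow 2-subgroups, no subgroup of index two and trivial odd core

Under the Gorenstein–Walter hypothesis such a group is either a double cover of `A₇` or has a
unique normal `SL₂(q)`.
-/

set_option autoImplicit false
set_option linter.unusedSectionVars false
set_option linter.style.haveILetI false

namespace CfsgLib.GWQuasi

open Subgroup Matrix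
open scoped commutatorElement

universe u

variable {K : Type u} [Group K] [Finite K]

theorem card_center_eq_two (P : Sylow 2 K) {m : ℕ} (hm : 1 ≤ m)
    (e : (P : Subgroup K) ≃* QuaternionGroup (2 ^ m)) (hO : Cfsg.oddCore K = ⊥) :
    Nat.card (center K) = 2 := by
  obtain ⟨n, rfl⟩ : ∃ n, m = n + 1 := ⟨m - 1, by omega⟩
  refine Cfsg.Agent.S0201.result P n e fun N hN hodd => ?_
  rw [eq_bot_iff, ← hO]
  exact CfsgLib.PLocal.le_pPrimeCore (hN := hN) (Nat.coprime_two_right.2 hodd)

theorem center_sq (hZ : Nat.card (center K) = 2) {x : K} (hx : x ∈ center K) : x * x = 1 := by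
  have := pow_card_eq_one' (G := center K) (x := ⟨x, hx⟩)
  rw [hZ] at this
  rw [← sq]
  exact congrArg Subtype.val this

theorem center_le_of_mem (hZ : Nat.card (center K) = 2) (N : Subgroup K) {x : K} (hxN : x ∈ N)
    (hx : x ∈ center K) (hx1 : x ≠ 1) : center K ≤ N := by
  have hle : zpowers x ≤ center K := zpowers_le.2 hx
  have hcard : Nat.card (zpowers x) = 2 := by
    rw [Nat.card_zpowers]; exact Small.orderOf_eq_two_iff_sq.2 ⟨hx1, center_sq hZ hx⟩
  rw [← eq_of_le_of_card_ge hle (by rw [hcard, hZ])]
  exact zpowers_le.2 hxN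

theorem center_le_sylow (hZ : Nat.card (center K) = 2) (P : Sylow 2 K) : center K ≤ P := by
  haveI : Fact (Nat.Prime 2) := ⟨Nat.prime_two⟩
  refine le_trans ?_ (CfsgLib.PLocal.pCore_le_sylow P)
  exact CfsgLib.PLocal.le_pCore (IsPGroup.of_card (n := 1) (by rw [hZ, pow_one]))

/-- Every involution is central. -/
theorem mem_center_of_sq (P : Sylow 2 K) {m : ℕ} (e : (P : Subgroup K) ≃* QuaternionGroup (2 ^ m))
    (hZ : Nat.card (center K) = 2) {x : K} (hx : x * x = 1) : x ∈ center K := by
  haveI : Fact (Nat.Prime 2) := ⟨Nat.prime_two⟩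
  haveI : NeZero (2 ^ m) := ⟨by positivity⟩
  by_cases hx1 : x = 1
  · rw [hx1]; exact one_mem _
  have hp : IsPGroup 2 (zpowers x) :=
    IsPGroup.of_card (n := 1) (by
      rw [Nat.card_zpowers, pow_one]; exact Small.orderOf_eq_two_iff_sq.2 ⟨hx1, hx⟩)
  obtain ⟨P', hP'⟩ := hp.exists_le_sylow
  let e' := (Sylow.equiv P' P).trans e
  obtain ⟨z, hz, hz1⟩ := (bot_or_exists_ne_one (center K)).resolve_left fun hb => by
    rw [hb, card_bot] at hZ; omega
  have hzP : z ∈ (P' : Subgroup K) := center_le_sylow hZ P' hz
  have heq : (⟨x, hP' (mem_zpowers x)⟩ : (P' : Subgroup K)) = ⟨z, hzP⟩ := by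
    apply e'.injective
    apply TwoGroups.quaternionGroup_unique_invol
    · rw [← map_mul]; exact (congrArg e' (Subtype.ext hx)).trans (map_one e')
    · rw [ne_eq, MulEquiv.map_eq_one_iff]
      exact fun h => hx1 (congrArg Subtype.val h)
    · rw [← map_mul]; exact (congrArg e' (Subtype.ext (center_sq hZ hz))).trans (map_one e')
    · rw [ne_eq, MulEquiv.map_eq_one_iff]
      exact fun h => hz1 (show z = 1 from congrArg Subtype.val h)
  rw [show x = z from congrArg Subtype.val heq]
  exact hz

/-- The central quotient has dihedral Sylow 2-subgroups. -/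
theorem dihType_quotient (P : Sylow 2 K) {m : ℕ} (e : (P : Subgroup K) ≃* QuaternionGroup (2 ^ m))
    (hZ : Nat.card (center K) = 2) : GW.DihType (K ⧸ center K) := by
  haveI : Fact (Nat.Prime 2) := ⟨Nat.prime_two⟩
  haveI : NeZero (2 ^ m) := ⟨by positivity⟩
  let P' := P.mapSurjective (QuotientGroup.mk'_surjective (center K))
  let f := (QuotientGroup.mk' (center K)).subgroupMap (P : Subgroup K)
  let g := (CfsgLib.FusionMetaSuper.quatToDihedral (2 ^ m)).comp e.toMonoidHom
  have hker : f.ker = g.ker := by
    ext x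
    simp only [g, MonoidHom.mem_ker, MonoidHom.comp_apply]
    rw [← MonoidHom.mem_ker (f := CfsgLib.FusionMetaSuper.quatToDihedral _),
      CfsgLib.FusionMetaSuper.mem_ker_quatToDihedral]
    have h1 : f x = 1 ↔ (x : K) ∈ center K := by
      rw [← QuotientGroup.eq_one_iff]
      exact ⟨fun h => congrArg Subtype.val h, fun h => Subtype.ext h⟩
    rw [h1, MulEquiv.coe_toMonoidHom, ← map_pow, MulEquiv.map_eq_one_iff]
    refine ⟨fun h => Subtype.ext (by rw [Subgroup.coe_pow, sq]; exact center_sq hZ h), fun h => ?_⟩
    refine mem_center_of_sq P e hZ ?_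
    rw [← sq, ← Subgroup.coe_pow, h, coe_one]
  let iso := ((QuotientGroup.quotientKerEquivOfSurjective f
    ((QuotientGroup.mk' (center K)).subgroupMap_surjective _)).symm.trans
    (QuotientGroup.quotientMulEquivOfEq hker)).trans
    (QuotientGroup.quotientKerEquivOfSurjective g
      ((CfsgLib.FusionMetaSuper.quatToDihedral_surjective _).comp e.surjective))
  exact GW.dihType_of_sylow P'
    ((MulEquiv.subgroupCongr (Sylow.coe_mapSurjective (QuotientGroup.mk'_surjective (center K)) P)).trans iso)

theorem no_index_two_map {A B : Type*} [Group A] [Group B] {f : A →* B} (hf : Function.Surjective f)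
    (hA : ∀ M : Subgroup A, M.index ≠ 2) (M : Subgroup B) : M.index ≠ 2 := by
  rw [← index_comap_of_surjective M hf]; exact hA _

/-- A normal subgroup of odd index contains every 2-subgroup. -/
theorem le_of_odd_index (N : Subgroup K) [N.Normal] (hN : Odd N.index) {P : Subgroup K}
    (hP : IsPGroup 2 P) : P ≤ N := by
  intro x hx
  obtain ⟨k, hk⟩ := hP ⟨x, hx⟩
  have hk' : x ^ 2 ^ k = 1 := congrArg Subtype.val hk
  rw [← QuotientGroup.eq_one_iff, ← orderOf_eq_one_iff]
  have h1 : orderOf (x : K ⧸ N) ∣ 2 ^ k :=
    orderOf_dvd_of_pow_eq_one (by rw [← QuotientGroup.mk_pow, hk', QuotientGroup.mk_one])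
  have h2 : orderOf (x : K ⧸ N) ∣ N.index := by rw [index_eq_card]; exact orderOf_dvd_natCard _
  exact Nat.dvd_one.1 ((Nat.Coprime.pow_left k (Nat.coprime_two_left.2 hN)).gcd_eq_one ▸
    Nat.dvd_gcd h1 h2)

theorem commutator_eq_top_of_equiv {A B : Type*} [Group A] [Group B] (e : A ≃* B)
    (h : commutator B = ⊤) : commutator A = ⊤ := by
  have := map_commutator (⊤ : Subgroup B) ⊤ e.symm.toMonoidHom
  rw [← _root_.commutator_def, h, map_top_of_surjective _ e.symm.surjective, ← _root_.commutator_def] at this
  exact this.symm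

theorem le_commutator_of_sl2 {G : Type*} [Group G] (L : Subgroup G) {F : Type} [Field F]
    [Fintype F] (h4 : 4 ≤ Fintype.card F) (e : L ≃* SpecialLinearGroup (Fin 2) F) :
    L ≤ commutator G := by
  have h := commutator_eq_top_of_equiv e (WordLaws.commutator_SL2 h4)
  intro x hx
  have hx' : x ∈ (commutator L).map L.subtype := ⟨⟨x, hx⟩, h.ge (mem_top _), rfl⟩
  rw [_root_.commutator_def, map_commutator] at hx'
  exact commutator_mono le_top le_top hx'

theorem sigma_sq_of_comm : ∀ σ : Equiv.Perm (Fin 4), σ ^ 8 = 1 →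
    (∀ a : Equiv.Perm (Fin 4), Equiv.Perm.sign a = 1 → (σ * a * σ⁻¹ * a⁻¹) ^ 4 = 1) →
      σ * σ = 1 := by
  decide +kernel

/-- What is needed about the normal `SL₂(q)`. -/
structure SL2Data (E : Subgroup K) (F : Type) [Field F] [Fintype F] : Prop where
  normal : E.Normal
  odd : Odd (Fintype.card F)
  iso : Nonempty (E ≃* SpecialLinearGroup (Fin 2) F)
  top_of_three : Fintype.card F = 3 → E = ⊤
  centralizer_le : ∀ x, (∀ y ∈ E, x * y = y * x) → x ∈ center K
  center_le : center K ≤ E
  unique : ∀ L₁ : Subgroup K, L₁.Normal → IsSL2 L₁ → L₁ = E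

/-- The structure. -/
theorem sl2_or_alt_seven (h : ∀ m, GW.SimpleHyp.{u} m) (hK : ∀ M : Subgroup K, M.index ≠ 2)
    (P : Sylow 2 K) {m : ℕ} (hm : 1 ≤ m) (e : (P : Subgroup K) ≃* QuaternionGroup (2 ^ m))
    (hO : Cfsg.oddCore K = ⊥) :
    (∃ (E : Subgroup K) (F : Type) (_ : Field F) (_ : Fintype F), SL2Data E F) ∨
      Nonempty (K ⧸ center K ≃* alternatingGroup (Fin 7)) := by
  classical
  haveI : Fact (Nat.Prime 2) := ⟨Nat.prime_two⟩
  haveI : NeZero (2 ^ m) := ⟨by positivity⟩
  have hZ := card_center_eq_two P hm e hO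
  have hX : ∀ M : Subgroup (K ⧸ center K), M.index ≠ 2 :=
    no_index_two_map (QuotientGroup.mk'_surjective (center K)) hK
  have hinv : ∀ x : K, x * x = 1 → x ∈ center K := fun x => mem_center_of_sq P e hZ
  -- from a normal `PSL₂` to a normal `SL₂`
  have build : ∀ (F : Type) [Field F] [Fintype F], Odd (Fintype.card F) →
      ∀ (L : Subgroup (K ⧸ center K)) [L.Normal],
      L ≃* ProjectiveSpecialLinearGroup (Fin 2) F → centralizer (L : Set (K ⧸ center K)) = ⊥ →
      (Fintype.card F = 3 → L = ⊤) →
      ∃ (E : Subgroup K) (F : Type) (_ : Field F) (_ : Fintype F), SL2Data E F := by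
    intro F _ _ hodd L _ eL hc h3
    have hLidx : Odd L.index :=
      odd_index_of_commutator_le hX L (commutator_le_psl hodd L eL hc)
    let E := L.comap (QuotientGroup.mk' (center K))
    haveI hEn : E.Normal := inferInstance
    have hZE : center K ≤ E := fun z hz => by
      show QuotientGroup.mk' (center K) z ∈ L
      rw [QuotientGroup.mk'_apply, (QuotientGroup.eq_one_iff z).2 hz]; exact one_mem _
    have hPE : (P : Subgroup K) ≤ E := le_of_odd_index E
      (by rw [index_comap_of_surjective _ (QuotientGroup.mk'_surjective _)]; exact hLidx) P.isPGroup'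
    let π : E →* ProjectiveSpecialLinearGroup (Fin 2) F := eL.toMonoidHom.comp
      (((QuotientGroup.mk' (center K)).comp E.subtype).codRestrict L fun x => x.2)
    have hπ : Function.Surjective π := eL.surjective.comp fun y => by
      obtain ⟨x, hx⟩ := QuotientGroup.mk'_surjective (center K) (y : K ⧸ center K)
      exact ⟨⟨x, by show QuotientGroup.mk' (center K) x ∈ L; rw [hx]; exact y.2⟩, Subtype.ext hx⟩
    have hker : ∀ x : E, x ∈ π.ker ↔ (x : K) ∈ center K := fun x => by
      rw [MonoidHom.mem_ker, MonoidHom.comp_apply, MulEquiv.coe_toMonoidHom,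
        MulEquiv.map_eq_one_iff, ← QuotientGroup.eq_one_iff]
      exact ⟨fun h => congrArg Subtype.val h, fun h => Subtype.ext h⟩
    have hkc : Nat.card π.ker = 2 := by
      rw [show π.ker = (center K).subgroupOf E from SetLike.ext fun x => (hker x).trans mem_subgroupOf.symm,
        Nat.card_congr (subgroupOfEquivOfLe hZE).toEquiv, hZ]
    have hE2 : ∀ M : Subgroup E, M.index ≠ 2 := by
      intro M hM
      set w : E := inclusion hPE (e.symm (.xa 0)) with hw
      have hw4 : orderOf w = 4 := by
        rw [hw, orderOf_injective _ (inclusion_injective hPE), MulEquiv.orderOf_eq,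
          QuaternionGroup.orderOf_xa]
      have hw2 : w * w ≠ 1 := fun h => by
        have := orderOf_dvd_of_pow_eq_one (show w ^ 2 = 1 by rw [sq, h])
        rw [hw4] at this
        exact absurd (Nat.le_of_dvd two_pos this) (by norm_num)
      have hww : w * w * (w * w) = 1 := by
        have := pow_orderOf_eq_one w
        rw [hw4, show (4 : ℕ) = 2 + 2 from rfl, pow_add, sq] at this
        exact this
      have hwc : ((w * w : E) : K) ∈ center K := hinv _ (congrArg Subtype.val hww)
      have hkM : π.ker ≤ M := by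
        intro x hx
        rw [hker] at hx
        have := center_le_of_mem hZ (M.map E.subtype)
          ⟨_, mul_self_mem_of_index_two hM w, rfl⟩ hwc
          (fun h => hw2 (Subtype.ext h)) hx
        obtain ⟨y, hy, hyx⟩ := this
        rwa [← Subtype.ext (a1 := y) (a2 := x) hyx]
      have h1 : (M.map π).index = 2 := by rw [index_map_eq M hπ hkM, hM]
      exact no_index_two_map (QuotientGroup.mk'_surjective _) (sl2_no_index_two hodd) _ h1
    obtain ⟨eE⟩ := nonempty_equiv_sl2 hodd π hπ hkc hE2
    refine ⟨E, F, inferInstance, inferInstance, ⟨hEn, hodd, ⟨eE⟩, fun h => ?_, ?_, hZE, ?_⟩⟩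
    · show comap _ L = ⊤
      rw [h3 h, comap_top]
    · intro x hx
      rw [← QuotientGroup.eq_one_iff, ← Subgroup.mem_bot, ← hc, mem_centralizer_iff]
      intro y hy
      obtain ⟨y', rfl⟩ := QuotientGroup.mk'_surjective (center K) y
      rw [QuotientGroup.mk'_apply, ← QuotientGroup.mk_mul, ← QuotientGroup.mk_mul, hx y' hy]
    · intro L₁ hL₁ hs
      obtain ⟨F₁, _, _, hodd₁, ⟨e₁⟩⟩ := hs
      have hcard₁ : Nat.card L₁ = Nat.card (SpecialLinearGroup (Fin 2) F₁) := Nat.card_congr e₁.toEquiv
      have hcardE : Nat.card E = Nat.card (SpecialLinearGroup (Fin 2) F) := Nat.card_congr eE.toEquiv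
      have h24 := card_sl2_ge hodd₁
      rcases (three_le_card hodd).eq_or_lt with hq | hq
      · have hEtop : E = ⊤ := by show comap _ L = ⊤; rw [h3 hq.symm, comap_top]
        have hE24 : Nat.card E = 24 := by
          rw [hcardE, Linear.card_SL_two, ← hq]; norm_num
        refine eq_of_le_of_card_ge (hEtop ▸ le_top) ?_
        rw [hE24, hcard₁]; exact h24.1
      haveI : IsSimpleGroup L := by
        haveI : IsSimpleGroup (ProjectiveSpecialLinearGroup (Fin 2) F) :=
          Linear.isSimpleGroup_PSL_of 2 le_rfl fun _ => by omega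
        haveI : Nontrivial L := eL.toEquiv.nontrivial
        exact IsSimpleGroup.isSimpleGroup_of_surjective eL.symm.toMonoidHom eL.symm.surjective
      set N := L₁.map (QuotientGroup.mk' (center K))
      haveI : N.Normal := hL₁.map _ (QuotientGroup.mk'_surjective _)
      have heven : 2 ∣ Nat.card L₁ := by
        rw [hcard₁, Linear.card_SL_two]
        obtain ⟨j, hj⟩ := hodd₁
        refine dvd_mul_of_dvd_right ?_ _
        rw [show Fintype.card F₁ ^ 2 - 1 = 2 * (2 * j * j + 2 * j) by rw [hj]; ring_nf; omega]
        exact dvd_mul_right 2 _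
      have hZL : center K ≤ L₁ := by
        obtain ⟨x, hx⟩ := exists_prime_orderOf_dvd_card' (G := L₁) 2 heven
        have hx' : orderOf (x : K) = 2 := by rw [orderOf_coe, hx]
        exact center_le_of_mem hZ L₁ x.2 (hinv _ (Small.mul_self_of_orderOf_two hx'))
          (Small.ne_one_of_orderOf_two hx')
      have hLN : L ≤ N := by
        rcases IsSimpleGroup.eq_bot_or_eq_top_of_normal (N.subgroupOf L) inferInstance with h | h
        · exfalso
          have hle : N ≤ centralizer (L : Set (K ⧸ center K)) := by
            intro x hx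
            rw [mem_centralizer_iff]
            intro y hy
            have hd : Disjoint N L := by rwa [subgroupOf_eq_bot] at h
            exact (commute_of_normal_of_disjoint N L inferInstance inferInstance hd x y hx hy).eq.symm
          rw [hc] at hle
          have hle' : L₁ ≤ center K := fun x hx => by
            rw [← QuotientGroup.eq_one_iff, ← Subgroup.mem_bot]
            exact hle ⟨x, hx, rfl⟩
          have := Subgroup.card_le_of_le hle'
          have := h24.1
          omega
        · exact subgroupOf_eq_top.1 h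
      have hEL : E ≤ L₁ := by
        intro x hx
        obtain ⟨y, hy, hyx⟩ := hLN hx
        rw [QuotientGroup.mk'_apply, QuotientGroup.mk'_apply, QuotientGroup.eq] at hyx
        have := mul_mem hy (hZL hyx)
        rwa [mul_inv_cancel_left] at this
      refine le_antisymm ?_ hEL
      rcases (three_le_card hodd₁).eq_or_lt with hq₁ | hq₁
      · exfalso
        have := Subgroup.card_le_of_le hEL
        rw [hcardE, hcard₁] at this
        have h' := (card_sl2_ge hodd).2 hq
        rw [Linear.card_SL_two (F := F₁), ← hq₁] at this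
        simp only [Nat.reducePow, Nat.reduceSub, Nat.reduceMul] at this
        omega
      · intro x hx
        show QuotientGroup.mk' (center K) x ∈ L
        refine commutator_le_psl hodd L eL hc ?_
        have h' : QuotientGroup.mk' (center K) x ∈ (commutator K).map (QuotientGroup.mk' (center K)) :=
          ⟨x, le_commutator_of_sl2 L₁ hq₁ e₁ hx, rfl⟩
        rw [_root_.commutator_def, map_commutator] at h'
        exact commutator_mono le_top le_top h'
  have hcard1 : 2 ≤ Nat.card (P : Subgroup K) := by
    rw [Nat.card_congr e.toEquiv, Nat.card_eq_fintype_card, QuaternionGroup.card]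
    have := Nat.one_le_two_pow (n := m); omega
  rcases GW.knownCore_of_simpleHyp (dihType_quotient P e hZ)
      (oddCore_quotient_eq_bot hO (center K) le_rfl hZ) (h _) with h2 | h4 | h4 | ⟨L, hLn, hL, hLc⟩
  · exfalso
    obtain ⟨a, ha⟩ := IsPGroup.iff_card.1 h2
    have htop := eq_top_of_pow_two_index hK (center K) (a := a) (by rw [index_eq_card, ha])
    have h8 : 8 ≤ Nat.card (P : Subgroup K) := by
      rw [Nat.card_congr e.toEquiv, Nat.card_eq_fintype_card, QuaternionGroup.card]
      have : 2 ^ 1 ≤ 2 ^ m := Nat.pow_le_pow_right two_pos hm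
      omega
    have := Subgroup.card_le_of_le (htop ▸ le_top : (P : Subgroup K) ≤ center K)
    omega
  · left
    obtain ⟨e4⟩ := h4
    obtain ⟨e3⟩ := Cfsg.Agent.S0251.result (F := ZMod 3) (ZMod.card 3)
    refine build (ZMod 3) (by rw [ZMod.card]; decide) ⊤
      ((topEquiv.trans e4).trans e3.symm) ?_ fun _ => rfl
    rw [eq_bot_iff]
    intro x hx
    rw [Subgroup.mem_bot, ← MulEquiv.map_eq_one_iff e4]
    have hc : ∀ a : alternatingGroup (Fin 4), a * e4 x = e4 x * a := fun a => by
      obtain ⟨y, rfl⟩ := e4.surjective a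
      rw [← map_mul, ← map_mul, mem_centralizer_iff.1 hx y (mem_top y)]
    revert hc
    generalize e4 x = b
    revert b
    decide +kernel
  · exfalso
    obtain ⟨e4⟩ := h4
    exact no_index_two_map (f := e4.toMonoidHom) e4.surjective hX (alternatingGroup (Fin 4))
      alternatingGroup.index_eq_two
  · rcases hL with ⟨F, _, _, hodd, h3, ⟨eL⟩⟩ | ⟨⟨eL⟩⟩
    · exact Or.inl (build F hodd L eL hLc fun h => absurd h (by omega))
    · refine Or.inr ⟨?_⟩
      have htop : L = ⊤ := by
        rw [eq_top_iff']
        intro x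
        let eA := MulEquiv.ofBijective _
          (CfsgLib.AutAlt.conjNormal_bijective (α := Fin 7) (by decide) (by decide))
        let σ := eA.symm.toMonoidHom.comp
          ((MulAut.congr eL).toMonoidHom.comp (MulAut.conjNormal (H := L)))
        have hs : σ x ∈ alternatingGroup (Fin 7) := Equiv.Perm.mem_alternatingGroup.2
          (hom_eq_one_of_card_le_two hX (by simp) (Equiv.Perm.sign.comp σ) x)
        set s : L := eL.symm ⟨σ x, hs⟩ with hs'
        have hmem : x⁻¹ * (s : K ⧸ center K) ∈ centralizer (L : Set (K ⧸ center K)) := by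
          rw [mem_centralizer_iff]
          intro y hy
          have h1 : MulAut.congr eL (MulAut.conjNormal x) = MulAut.conjNormal (σ x) :=
            (eA.apply_symm_apply _).symm
          have h2 := congrArg (fun a : MulAut (alternatingGroup (Fin 7)) =>
            ((eL.symm (a (eL ⟨y, hy⟩)) : L) : K ⧸ center K)) h1
          have h3 : (MulAut.conjNormal (σ x) : MulAut (alternatingGroup (Fin 7))) (eL ⟨y, hy⟩) =
              eL (s * ⟨y, hy⟩ * s⁻¹) := by
            apply Subtype.ext
            rw [MulAut.conjNormal_apply, map_mul, map_mul, map_inv, hs', eL.apply_symm_apply]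
            rfl
          simp only [h3, eL.symm_apply_apply] at h2
          simp [MulAut.congr] at h2
          calc y * (x⁻¹ * s) = x⁻¹ * (x * y * x⁻¹) * s := by group
            _ = x⁻¹ * s * y := by rw [h2]; group
        rw [hLc, Subgroup.mem_bot, inv_mul_eq_one] at hmem
        rw [hmem]; exact s.2
      exact (topEquiv.symm.trans (MulEquiv.subgroupCongr htop.symm)).trans eL

end CfsgLib.GWQuasi
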