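import Cfsg.Agent.GWQuasi.DoubleCover
import Cfsg.Agent.GW.Perfect
import Cfsg.Agent.WordLaws.Embed
import Mathlib.GroupTheory.SchurZassenhaus

/-!
# General lemmas for the centralizer quotient with quaternion normal subgroup
-/

set_option autoImplicit false
set_option linter.unusedSectionVars false
set_option linter.style.haveILetI false

namespace CfsgLib.GWQuasi

open Subgroup Matrix
open scoped commutatorElement Pointwise

universe u

/-- `L` is `SL₂(q)` for an odd `q`. -/
def IsSL2 (L : Type*) [Group L] : Prop :=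
  ∃ (F : Type) (_ : Field F) (_ : Fintype F), Odd (Fintype.card F) ∧
    Nonempty (L ≃* SpecialLinearGroup (Fin 2) F)

theorem IsSL2.of_equiv {L L' : Type*} [Group L] [Group L'] (e : L ≃* L') (h : IsSL2 L) :
    IsSL2 L' := by
  obtain ⟨F, iF, iT, hodd, ⟨f⟩⟩ := h
  exact ⟨F, iF, iT, hodd, ⟨e.symm.trans f⟩⟩

theorem three_le_card {F : Type*} [Field F] [Fintype F] (hodd : Odd (Fintype.card F)) :
    3 ≤ Fintype.card F := by
  have := Fintype.one_lt_card (α := F)
  obtain ⟨j, hj⟩ := hodd
  omega

theorem card_sl2_ge {F : Type*} [Field F] [Fintype F] (hodd : Odd (Fintype.card F)) :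
    24 ≤ Nat.card (SpecialLinearGroup (Fin 2) F) ∧
      (3 < Fintype.card F → 24 < Nat.card (SpecialLinearGroup (Fin 2) F)) := by
  rw [Linear.card_SL_two]
  have h3 := three_le_card hodd
  have h9 : 8 ≤ Fintype.card F ^ 2 - 1 := by
    have : 3 ^ 2 ≤ Fintype.card F ^ 2 := Nat.pow_le_pow_left h3 2
    omega
  refine ⟨?_, fun h => ?_⟩
  · calc 24 = 3 * 8 := rfl
      _ ≤ _ := Nat.mul_le_mul h3 h9
  · calc 24 < 4 * 8 := by norm_num
      _ ≤ _ := Nat.mul_le_mul h h9

variable {G : Type*} [Group G] [Finite G]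

/-- A normal subgroup of 2-power index is everything if no subgroup has index two. -/
theorem eq_top_of_pow_two_index (hG : ∀ M : Subgroup G, M.index ≠ 2) (N : Subgroup G) [N.Normal]
    {a : ℕ} (hN : N.index = 2 ^ a) : N = ⊤ := by
  haveI : Fact (Nat.Prime 2) := ⟨Nat.prime_two⟩
  rcases a with _ | a
  · exact index_eq_one.1 (by simpa using hN)
  exfalso
  obtain ⟨M, hM⟩ := Sylow.exists_subgroup_card_pow_prime (G := G ⧸ N) 2 (n := a)
    (by rw [← index_eq_card, hN]; exact pow_dvd_pow 2 a.le_succ)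
  refine hG (M.comap (QuotientGroup.mk' N)) ?_
  rw [index_comap_of_surjective _ (QuotientGroup.mk'_surjective N)]
  have h := M.card_mul_index
  rw [hM, ← index_eq_card, hN, pow_succ] at h
  exact Nat.eq_of_mul_eq_mul_left (by positivity) h

/-- A homomorphism into a group of order at most two is trivial. -/
theorem hom_eq_one_of_card_le_two (hG : ∀ M : Subgroup G, M.index ≠ 2) {A : Type*} [Group A]
    [Finite A] (hA : Nat.card A ≤ 2) (f : G →* A) (g : G) : f g = 1 := by
  have h : f.ker.index ≤ 2 := by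
    rw [index_ker]; exact (card_le_card_group _).trans hA
  have h1 : f.ker.index ≠ 0 := Subgroup.index_ne_zero_of_finite
  have h2 : f.ker.index = 1 := by
    have := hG f.ker; omega
  exact (index_eq_one.1 h2).ge (mem_top g)

theorem odd_index_of_commutator_le (hG : ∀ M : Subgroup G, M.index ≠ 2) (L : Subgroup G)
    [L.Normal] (hL : commutator G ≤ L) : Odd L.index := by
  haveI : Fact (Nat.Prime 2) := ⟨Nat.prime_two⟩
  by_contra hodd
  rw [Nat.not_odd_iff_even, even_iff_two_dvd, index_eq_card] at hodd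
  have hcomm : ∀ a b : G ⧸ L, a * b = b * a := by
    intro a b
    induction a using QuotientGroup.induction_on with
    | H g =>
      induction b using QuotientGroup.induction_on with
      | H h =>
        rw [← commutatorElement_eq_one_iff_mul_comm, ← QuotientGroup.mk'_apply,
          ← QuotientGroup.mk'_apply, ← map_commutatorElement, QuotientGroup.mk'_apply,
          QuotientGroup.eq_one_iff]
        exact hL (Subgroup.commutator_mem_commutator (mem_top g) (mem_top h))
  let sq : G ⧸ L →* G ⧸ L := MonoidHom.mk' (fun a => a ^ 2) fun a b => Commute.mul_pow (hcomm a b) 2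
  haveI : (sq.range).Normal := ⟨fun x hx g => by rwa [hcomm g, mul_assoc, mul_inv_cancel, mul_one]⟩
  have hp : IsPGroup 2 ((G ⧸ L) ⧸ sq.range) := fun a => by
    induction a using QuotientGroup.induction_on with
    | H x => exact ⟨1, by rw [pow_one, ← QuotientGroup.mk_pow, QuotientGroup.eq_one_iff]; exact ⟨x, rfl⟩⟩
  obtain ⟨a, ha⟩ := IsPGroup.iff_card.1 hp
  have htop := eq_top_of_pow_two_index hG (sq.range.comap (QuotientGroup.mk' L)) (a := a)
    (by rw [index_comap_of_surjective _ (QuotientGroup.mk'_surjective L), index_eq_card, ha])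
  have hsurj : Function.Surjective sq := fun y => by
    obtain ⟨g, rfl⟩ := QuotientGroup.mk'_surjective L y
    exact (htop ▸ mem_top g : g ∈ sq.range.comap (QuotientGroup.mk' L))
  obtain ⟨x, hx⟩ := exists_prime_orderOf_dvd_card' (G := G ⧸ L) 2 hodd
  have h1 : sq x = sq 1 := by
    show x ^ 2 = 1 ^ 2
    rw [one_pow, ← hx, pow_orderOf_eq_one]
  rw [(Finite.injective_iff_surjective.2 hsurj) h1, orderOf_one] at hx
  omega

/-- A normal subgroup of a group of 2-power index, times a Sylow subgroup, is everything. -/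
theorem exists_mem_mul_mem (S : Sylow 2 G) (K : Subgroup G) [K.Normal] {a : ℕ}
    (hK : K.index = 2 ^ a) (g : G) : ∃ s ∈ (S : Subgroup G), ∃ k ∈ K, g = s * k := by
  haveI : Fact (Nat.Prime 2) := ⟨Nat.prime_two⟩
  have htop : (S : Subgroup G) ⊔ K = ⊤ := by
    rw [← index_eq_one]
    have h1 : ((S : Subgroup G) ⊔ K).index ∣ 2 ^ a := hK ▸ index_dvd_of_le le_sup_right
    obtain ⟨j, -, hj⟩ := (Nat.dvd_prime_pow Nat.prime_two).1 h1
    have h2 : ¬ 2 ∣ ((S : Subgroup G) ⊔ K).index := fun h =>
      S.not_dvd_index (h.trans (index_dvd_of_le le_sup_left))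
    rcases j with _ | j
    · simpa using hj
    · exact absurd (hj ▸ dvd_pow_self 2 j.succ_ne_zero) h2
  have hg : g ∈ ((S : Subgroup G) : Set G) * (K : Set G) := by
    rw [← Subgroup.mul_normal, htop]; exact mem_top g
  obtain ⟨s, hs, k, hk, rfl⟩ := hg
  exact ⟨s, hs, k, hk, rfl⟩

/-- A Sylow subgroup meets a normal subgroup in a Sylow subgroup. -/
theorem exists_sylow_subgroupOf (S : Sylow 2 G) (K : Subgroup G) [K.Normal] :
    ∃ P : Sylow 2 K, (P : Subgroup K) = (S : Subgroup G).subgroupOf K := by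
  haveI : Fact (Nat.Prime 2) := ⟨Nat.prime_two⟩
  have h2 : IsPGroup 2 ((S : Subgroup G).subgroupOf K) :=
    S.isPGroup'.comap_of_injective K.subtype K.subtype_injective
  obtain ⟨P, hP⟩ := h2.exists_le_sylow
  refine ⟨P, (eq_of_le_of_card_ge hP ?_).symm⟩
  obtain ⟨S', hS'⟩ := (P.isPGroup'.map K.subtype).exists_le_sylow
  obtain ⟨g, rfl⟩ := MulAction.exists_smul_eq G S S'
  have hmem : ∀ x : (P : Subgroup K), g⁻¹ * ((x : K) : G) * g ∈ (S : Subgroup G) := fun x => by
    have h : ((x : K) : G) ∈ ((g • S : Sylow 2 G) : Subgroup G) := hS' ⟨_, x.2, rfl⟩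
    rw [Sylow.coe_subgroup_smul, Subgroup.mem_pointwise_smul_iff_inv_smul_mem] at h
    simpa [MulAut.smul_def, MulAut.conj] using h
  refine Nat.card_le_card_of_injective (fun x : (P : Subgroup K) =>
    (⟨⟨g⁻¹ * ((x : K) : G) * g, by simpa using ‹K.Normal›.conj_mem _ (x : K).2 g⁻¹⟩,
      mem_subgroupOf.2 (hmem x)⟩ : (S : Subgroup G).subgroupOf K)) fun x y h => ?_
  have h' := congrArg (fun z : (S : Subgroup G).subgroupOf K => ((z : K) : G)) h
  simp only [mul_left_inj, mul_right_inj] at h'
  exact Subtype.ext (Subtype.ext h')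

/-- The quotient by a central subgroup of order two keeps a trivial odd core. -/
theorem oddCore_quotient_eq_bot (hO : Cfsg.oddCore G = ⊥) (Z : Subgroup G) [Z.Normal]
    (hZc : Z ≤ center G) (hZ : Nat.card Z = 2) : Cfsg.oddCore (G ⧸ Z) = ⊥ := by
  haveI : Fact (Nat.Prime 2) := ⟨Nat.prime_two⟩
  set O := Cfsg.oddCore (G ⧸ Z)
  set M := O.comap (QuotientGroup.mk' Z)
  have hZM : Z ≤ M := fun z hz => by
    show QuotientGroup.mk' Z z ∈ O
    rw [QuotientGroup.mk'_apply, (QuotientGroup.eq_one_iff z).2 hz]; exact one_mem _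
  haveI : O.Normal := inferInstanceAs (Cfsg.oddCore (G ⧸ Z)).Normal
  have hOodd : Odd (Nat.card O) := CfsgLib.Inv54.odd_card_oddCore
  have hidx : (Z.subgroupOf M).index = Nat.card O := by
    have hc : Nat.card (Z.subgroupOf M) = 2 := (Nat.card_congr (subgroupOfEquivOfLe hZM).toEquiv).trans hZ
    have h1 := (Z.subgroupOf M).card_mul_index
    have h2 : Nat.card M = 2 * Nat.card O := by
      have h3 := card_mul_index M
      rw [index_comap_of_surjective _ (QuotientGroup.mk'_surjective Z), ← Z.card_mul_index, hZ,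
        index_eq_card (H := Z), ← O.card_mul_index, ← mul_assoc] at h3
      exact Nat.eq_of_mul_eq_mul_right (Nat.pos_of_ne_zero index_ne_zero_of_finite) h3
    rw [hc, h2] at h1
    omega
  haveI : (Z.subgroupOf M).Normal := Normal.subgroupOf inferInstance M
  obtain ⟨C, hC⟩ := exists_right_complement'_of_coprime (N := Z.subgroupOf M)
    (by
      rw [hidx, Nat.card_congr (subgroupOfEquivOfLe hZM).toEquiv, hZ]
      exact Nat.coprime_two_left.2 hOodd)
  have hCcard : Nat.card C = Nat.card O := by rw [← hidx, hC.symm.index_eq_card]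
  have hzsq : ∀ z ∈ Z, z ^ 2 = 1 := fun z hz => by
    have := pow_card_eq_one' (G := Z) (x := ⟨z, hz⟩)
    rw [hZ] at this
    exact congrArg Subtype.val this
  obtain ⟨j, hj⟩ := hOodd
  have key : ∀ x : M, (x : G) ^ Nat.card O = 1 ↔ x ∈ C := by
    intro x
    have hpow : ∀ c ∈ C, c ^ Nat.card O = 1 := fun c hc => by
      have := pow_card_eq_one' (G := C) (x := ⟨c, hc⟩)
      rw [hCcard] at this
      exact congrArg Subtype.val this
    refine ⟨fun hx => ?_, fun hx => by rw [← SubmonoidClass.coe_pow, hpow x hx, coe_one]⟩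
    obtain ⟨⟨⟨z, hz⟩, ⟨c, hc⟩⟩, hzc⟩ := hC.2 x
    simp only at hzc
    subst hzc
    have hcomm : Commute (z : G) (c : G) := (mem_center_iff.1 (hZc (mem_subgroupOf.1 hz)) c).symm
    rw [Subgroup.coe_mul, hcomm.mul_pow] at hx
    rw [← SubmonoidClass.coe_pow c, hpow c hc, coe_one, mul_one, hj, pow_succ, pow_mul,
      hzsq _ (mem_subgroupOf.1 hz), one_pow, one_mul] at hx
    rw [show z = 1 from Subtype.ext hx, one_mul]
    exact hc
  have hn : (C.map M.subtype).Normal := ⟨by
    rintro _ ⟨c, hc, rfl⟩ g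
    have hgM : g * (c : G) * g⁻¹ ∈ M := (inferInstance : M.Normal).conj_mem _ c.2 g
    refine ⟨⟨_, hgM⟩, (key _).1 ?_, rfl⟩
    show (g * (c : G) * g⁻¹) ^ Nat.card O = 1
    rw [conj_pow, (key c).2 hc, mul_one, mul_inv_cancel]⟩
  have hCm : Nat.card (C.map M.subtype) = Nat.card O :=
    (Nat.card_congr (C.equivMapOfInjective _ M.subtype_injective).toEquiv).symm.trans hCcard
  have hle : C.map M.subtype ≤ Cfsg.oddCore G := CfsgLib.PLocal.le_pPrimeCore (hN := hn)
    (by rw [hCm]; exact Nat.coprime_two_right.2 ⟨j, hj⟩)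
  rw [hO, le_bot_iff] at hle
  rw [hle, card_bot] at hCm
  exact Subgroup.card_eq_one.1 hCm.symm

/-- An automorphism fixing everything modulo a central subgroup of order two is trivial. -/
theorem eq_one_of_fix_mod (hG : ∀ M : Subgroup G, M.index ≠ 2) (Z : Subgroup G)
    (hZc : Z ≤ center G) (hZ : Nat.card Z = 2) (a : MulAut G) (h : ∀ k, a k * k⁻¹ ∈ Z) : a = 1 := by
  let f : G →* Z := MonoidHom.mk' (fun k => ⟨a k * k⁻¹, h k⟩) fun k l => Subtype.ext <| by
    show a (k * l) * (k * l)⁻¹ = a k * k⁻¹ * (a l * l⁻¹)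
    have hc := mem_center_iff.1 (hZc (h l)) k⁻¹
    rw [map_mul, _root_.mul_inv_rev, mul_assoc (a k) k⁻¹, hc]
    group
  ext k
  have := congrArg Subtype.val (hom_eq_one_of_card_le_two hG hZ.le f k)
  exact mul_inv_eq_one.1 this

/-- The automorphisms induced on the central quotient. -/
noncomputable def autQuot (K : Type*) [Group K] : MulAut K →* MulAut (K ⧸ center K) where
  toFun a := QuotientGroup.congr (center K) (center K) a
    (characteristic_iff_map_eq.1 inferInstance a)
  map_one' := by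
    ext x; induction x using QuotientGroup.induction_on; rfl
  map_mul' a b := by
    ext x; induction x using QuotientGroup.induction_on; rfl

theorem autQuot_mk {K : Type*} [Group K] (a : MulAut K) (k : K) :
    autQuot K a (k : K ⧸ center K) = ((a k : K) : K ⧸ center K) := rfl

section PSL

variable {F : Type} [Field F] [Fintype F]

open CfsgLib.AutPSL CfsgLib.OutPSL in
theorem out_psl_comm (hodd : Odd (Fintype.card F))
    (a b : Cfsg.Out (ProjectiveSpecialLinearGroup (Fin 2) F)) : a * b = b * a := by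
  obtain ⟨p, hp⟩ := CharP.exists F
  haveI : Fact p.Prime := ⟨CharP.char_is_prime F p⟩
  obtain ⟨π, hπ, hker⟩ := exists_proj p (1 : PUnit.{1} →* MulAut (SpecialLinearGroup (Fin 2) F))
    (fun β => by
      obtain ⟨g, σ, γ, hγ, rfl⟩ := exists_form le_rfl β
      rcases hγ with rfl | rfl
      · exact ⟨g, σ, 1, by simp⟩
      · obtain ⟨w, hw⟩ := invTransSL_fin_two (F := F)
        refine ⟨g * mapGL σ w, σ, 1, ?_⟩
        rw [hw, MonoidHom.one_apply, mul_one, mul_assoc, fieldSL_mul_conjSL, ← mul_assoc, ← map_mul])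
    (fun {g g' σ σ' e e'} h => by
      simp only [MonoidHom.one_apply, mul_one] at h
      exact ⟨(semilinear_unique h).1, Subsingleton.elim _ _⟩)
    (fun e g => ⟨g, by simp⟩) (fun e σ => by simp)
  obtain ⟨φ, -, -, hcard⟩ := exists_out_hom p MulEquiv.prodUnique π hπ hker
  haveI : IsCyclic (F ≃+* F) := isCyclic_ringEquiv
  have h2 : Nat.card φ.ker = 2 := by
    rw [hcard]
    obtain ⟨j, hj⟩ := hodd
    exact Nat.gcd_eq_left ⟨j, by omega⟩
  exact commutative_of_cyclic_center_quotient φ (le_center_of_card_two h2) a b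

/-- Over a normal `PSL₂` with trivial centralizer the quotient is abelian. -/
theorem commutator_le_psl (hodd : Odd (Fintype.card F)) {X : Type*} [Group X] (L : Subgroup X)
    [L.Normal] (e : L ≃* ProjectiveSpecialLinearGroup (Fin 2) F)
    (hc : centralizer (L : Set X) = ⊥) : commutator X ≤ L := by
  let f := (QuotientGroup.mk' (Cfsg.Inn (ProjectiveSpecialLinearGroup (Fin 2) F))).comp
    ((MulAut.congr e).toMonoidHom.comp (MulAut.conjNormal (H := L)))
  rw [commutator_def, commutator_le]
  intro g _ k _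
  have h1 : f ⁅g, k⁆ = 1 := by
    rw [map_commutatorElement, commutatorElement_eq_one_iff_mul_comm]
    exact out_psl_comm hodd _ _
  generalize hx : ⁅g, k⁆ = x at h1 ⊢
  simp only [f, MonoidHom.comp_apply, QuotientGroup.mk'_apply, QuotientGroup.eq_one_iff] at h1
  obtain ⟨s, hs⟩ := h1
  have hmem : x⁻¹ * (e.symm s : X) ∈ centralizer (L : Set X) := by
    rw [mem_centralizer_iff]
    intro y hy
    have h' := congrArg (fun a : MulAut (ProjectiveSpecialLinearGroup (Fin 2) F) =>
      ((e.symm (a (e ⟨y, hy⟩)) : L) : X)) hs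
    simp [MulAut.congr, MulAut.conj] at h'
    calc y * (x⁻¹ * e.symm s) = x⁻¹ * (x * y * x⁻¹) * e.symm s := by group
      _ = x⁻¹ * e.symm s * y := by rw [← h']; group
  rw [hc, Subgroup.mem_bot, inv_mul_eq_one] at hmem
  rw [hmem]; exact (e.symm s).2

end PSL

end CfsgLib.GWQuasi
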