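import Cfsg.Agent.GW.Known
import Mathlib.GroupTheory.IsPerfect

/-!
# The simple case of Gorenstein–Walter from the perfect case
-/

set_option autoImplicit false
set_option linter.style.haveILetI false

namespace CfsgLib.GWQuasi

universe u

/-- The perfect case gives the hypothesis used in the reductions. -/
theorem simpleHyp_of_perfect
    (hp : ∀ (X : Type u) [Group X] [Finite X] [Group.IsPerfect X] (S : Sylow 2 X) (n : ℕ), 2 ≤ n →
      Nonempty ((S : Subgroup X) ≃* DihedralGroup n) →
      (∃ (F : Type) (_ : Field F) (_ : Fintype F), Odd (Fintype.card F) ∧ 3 < Fintype.card F ∧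
          Nonempty (X ⧸ Cfsg.oddCore X ≃* Matrix.ProjectiveSpecialLinearGroup (Fin 2) F)) ∨
        Nonempty (X ⧸ Cfsg.oddCore X ≃* alternatingGroup (Fin 7)))
    (m : ℕ) : GW.SimpleHyp.{u} m := by
  intro G _ _ hs _ S n hn hS
  haveI : Fact (Nat.Prime 2) := ⟨Nat.prime_two⟩
  haveI := hs
  have h4 : 4 ∣ Nat.card G := by
    obtain ⟨k, hk⟩ := IsPGroup.iff_card.1 S.isPGroup'
    have h2n : Nat.card (S : Subgroup G) = 2 * n := by
      rw [Nat.card_congr hS.some.toEquiv, DihedralGroup.nat_card]
    refine dvd_trans ?_ (S : Subgroup G).card_subgroup_dvd_card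
    rw [hk] at h2n ⊢
    rcases k with _ | _ | k
    · omega
    · simp at h2n; omega
    · exact ⟨2 ^ k, by ring⟩
  haveI : Group.IsPerfect G := by
    rcases hs.eq_bot_or_eq_top_of_normal (commutator G) inferInstance with h | h
    · exfalso
      have hc : ∀ a b : G, a * b = b * a := fun a b => by
        rw [← commutatorElement_eq_one_iff_mul_comm, ← Subgroup.mem_bot, ← h]
        exact Subgroup.commutator_mem_commutator (Subgroup.mem_top a) (Subgroup.mem_top b)
      obtain ⟨x, hx⟩ := exists_prime_orderOf_dvd_card' (G := G) 2 (dvd_trans (by norm_num) h4)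
      have hn : (Subgroup.zpowers x).Normal := ⟨fun y hy g => by
        rwa [hc g, mul_assoc, mul_inv_cancel, mul_one]⟩
      rcases hs.eq_bot_or_eq_top_of_normal _ hn with h' | h'
      · rw [Subgroup.zpowers_eq_bot] at h'
        rw [h', orderOf_one] at hx
        omega
      · rw [← Subgroup.card_top (G := G), ← h', Nat.card_zpowers, hx] at h4
        omega
    · exact ⟨h⟩
  have hO : Cfsg.oddCore G = ⊥ := by
    rcases hs.eq_bot_or_eq_top_of_normal (Cfsg.oddCore G)
      (inferInstance : (Cfsg.oddCore G).Normal) with h | h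
    · exact h
    · exfalso
      have hodd := CfsgLib.Inv54.odd_card_oddCore (G := G)
      rw [h, Subgroup.card_top] at hodd
      exact hodd.not_two_dvd_nat (dvd_trans (by norm_num) h4)
  let e : G ≃* G ⧸ Cfsg.oddCore G :=
    ((QuotientGroup.quotientMulEquivOfEq hO).trans QuotientGroup.quotientBot).symm
  rcases hp G S n hn hS with ⟨F, iF, iT, hodd, h3, ⟨f⟩⟩ | ⟨⟨f⟩⟩
  · exact Or.inl ⟨F, iF, iT, hodd, h3, ⟨e.trans f⟩⟩
  · exact Or.inr ⟨e.trans f⟩

end CfsgLib.GWQuasi
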