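import Cfsg.Agent.MultPSL.Main
import Cfsg.Agent.RootSubgroups.Steinberg
import Cfsg.Agent.Linear.SmallIsoTools

/-!
# A double cover of `PSL₂(q)`, `q` odd, without a subgroup of index two is `SL₂(q)`
-/

set_option autoImplicit false
set_option linter.unusedSectionVars false
set_option linter.style.haveILetI false

namespace CfsgLib.GWQuasi

open Matrix

theorem le_center_of_card_two {G : Type*} [Group G] {N : Subgroup G} [hN : N.Normal]
    (h : Nat.card N = 2) : N ≤ Subgroup.center G := by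
  intro a ha
  refine Subgroup.mem_center_iff.2 fun g => ?_
  by_contra hne
  obtain ⟨u, v, -, huv⟩ := Nat.card_eq_two_iff.1 h
  have ha1 : a ≠ 1 := fun e => hne (by simp [e])
  have hb : g * a * g⁻¹ ∈ N := hN.conj_mem a ha g
  have hb1 : g * a * g⁻¹ ≠ 1 := fun e => ha1 (conj_eq_one_iff.1 e)
  have hab : g * a * g⁻¹ ≠ a := fun e => hne (mul_inv_eq_iff_eq_mul.1 e)
  have hall : ∀ x : N, x = u ∨ x = v := fun x => by
    have := huv.ge (Set.mem_univ x); simpa using this
  rcases hall ⟨a, ha⟩ with e1 | e1 <;> rcases hall ⟨g * a * g⁻¹, hb⟩ with e2 | e2 <;>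
    rcases hall 1 with e3 | e3 <;>
    first
      | exact hab (congrArg Subtype.val (e2.trans e1.symm))
      | exact hb1 (congrArg Subtype.val (e2.trans e3.symm))
      | exact ha1 (congrArg Subtype.val (e1.trans e3.symm))

theorem mem_of_pow_odd {G : Type*} [Group G] {M : Subgroup G} (hM : M.index = 2) {T : G} {k : ℕ}
    (hk : Odd k) (h : T ^ k ∈ M) : T ∈ M := by
  obtain ⟨j, rfl⟩ := hk
  rw [pow_succ, pow_mul] at h
  have h2 : T ^ 2 ∈ M := Subgroup.sq_mem_of_index_two hM T
  exact (M.mul_mem_cancel_left (pow_mem h2 j)).1 h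

variable {F : Type*} [Field F] [Fintype F]

theorem sl2_no_index_two (hodd : Odd (Fintype.card F))
    (M : Subgroup (SpecialLinearGroup (Fin 2) F)) : M.index ≠ 2 := by
  intro hM
  obtain ⟨p, hp⟩ := CharP.exists F
  obtain ⟨n, hpp, hc⟩ := FiniteField.card F p
  have hp2 : Odd p := by
    rw [hc, Nat.odd_pow_iff n.ne_zero] at hodd; exact hodd
  have htop : M = ⊤ := by
    refine Linear.sl_eq_top_of_transvections fun i j h c => mem_of_pow_odd hM hp2 ?_
    have hpow : ∀ m : ℕ, SpecialLinearGroup.transvection h c ^ m =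
        SpecialLinearGroup.transvection h ((m : F) * c) := by
      intro m
      induction m with
      | zero =>
        rw [pow_zero]
        apply Subtype.ext
        simp [SpecialLinearGroup.transvection]
      | succ m ih =>
        have := (MultPSL.stein_el (F := F) (ι := Fin 2)).add i j h ((m : F) * c) c
        rw [MultPSL.el_eq h, MultPSL.el_eq h, MultPSL.el_eq h] at this
        rw [pow_succ, ih, ← this, Nat.cast_succ, add_mul, one_mul]
    rw [hpow, CharP.cast_eq_zero, zero_mul]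
    convert one_mem M
    apply Subtype.ext
    simp [SpecialLinearGroup.transvection]
  rw [htop, Subgroup.index_top] at hM
  omega

/-- A double cover of `PSL₂(q)` with no subgroup of index two is `SL₂(q)`. -/
theorem nonempty_equiv_sl2 (hodd : Odd (Fintype.card F)) {E : Type*} [Group E] [Finite E]
    (π : E →* ProjectiveSpecialLinearGroup (Fin 2) F) (hs : Function.Surjective π)
    (hk : Nat.card π.ker = 2) (hE : ∀ M : Subgroup E, M.index ≠ 2) :
    Nonempty (E ≃* SpecialLinearGroup (Fin 2) F) := by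
  classical
  obtain ⟨p, hp⟩ := CharP.exists F
  obtain ⟨n, hpp, hc⟩ := FiniteField.card F p
  have hp2 : Odd p := by
    rw [hc, Nat.odd_pow_iff n.ne_zero] at hodd; exact hodd
  have hcen : π.ker ≤ Subgroup.center E := le_center_of_card_two hk
  have hksq : ∀ k ∈ π.ker, k ^ 2 = 1 := fun k hk' => by
    have := pow_card_eq_one' (G := π.ker) (x := ⟨k, hk'⟩)
    rw [hk] at this
    exact congrArg Subtype.val this
  have uniq : ∀ {u v : E}, π u = π v → u ^ p = 1 → v ^ p = 1 → u = v := by
    intro u v h hu hv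
    have hkm : u⁻¹ * v ∈ π.ker := by rw [MonoidHom.mem_ker, map_mul, map_inv, h, inv_mul_cancel]
    have hcomm : Commute u (u⁻¹ * v) := Subgroup.mem_center_iff.1 (hcen hkm) u
    have h1 : (u⁻¹ * v) ^ p = 1 := by
      have := hcomm.mul_pow p
      rw [mul_inv_cancel_left, hv, hu, one_mul] at this
      exact this.symm
    obtain ⟨j, rfl⟩ := hp2
    rw [pow_succ, pow_mul, hksq _ hkm, one_pow, one_mul] at h1
    exact inv_mul_eq_one.1 h1
  let σ : ProjectiveSpecialLinearGroup (Fin 2) F → E := fun q => Function.surjInv hs q ^ (p + 1)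
  have pσ : ∀ q, q ^ p = 1 → π (σ q) = q := fun q hq => by
    rw [map_pow, Function.surjInv_eq hs, pow_succ, hq, one_mul]
  have σp : ∀ q, q ^ p = 1 → σ q ^ p = 1 := fun q hq => by
    have hkm : Function.surjInv hs q ^ p ∈ π.ker := by
      rw [MonoidHom.mem_ker, map_pow, Function.surjInv_eq hs, hq]
    obtain ⟨j, hj⟩ := hp2
    rw [← pow_mul, mul_comm, pow_mul, show p + 1 = 2 * (j + 1) by omega, pow_mul, hksq _ hkm,
      one_pow]
  have R := MultPSL.rel_two (F := F)
  set X : F → ProjectiveSpecialLinearGroup (Fin 2) F := MultPSL.proot 0 1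
  set Y : F → ProjectiveSpecialLinearGroup (Fin 2) F := MultPSL.proot 1 0
  have powp : ∀ (Z : F → ProjectiveSpecialLinearGroup (Fin 2) F),
      (∀ s t, Z (s + t) = Z s * Z t) → ∀ t, Z t ^ p = 1 := by
    intro Z hZ t
    have h0 : Z 0 = 1 := by simpa using hZ 0 0
    have : ∀ m : ℕ, Z ((m : F) * t) = Z t ^ m := by
      intro m
      induction m with
      | zero => rw [Nat.cast_zero, zero_mul, h0, pow_zero]
      | succ m ih => rw [Nat.cast_succ, add_mul, one_mul, hZ, ih, pow_succ]
    rw [← this, CharP.cast_eq_zero, zero_mul, h0]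
  have hXp := powp X R.addX
  have hYp := powp Y R.addY
  have lift_add : ∀ (Z : F → ProjectiveSpecialLinearGroup (Fin 2) F),
      (∀ s t, Z (s + t) = Z s * Z t) → (∀ t, Z t ^ p = 1) →
      ∀ s t, σ (Z (s + t)) = σ (Z s) * σ (Z t) := by
    intro Z hZ hZp s t
    have hc' : Commute (σ (Z s)) (σ (Z t)) := by
      refine mul_inv_eq_iff_eq_mul.1 (uniq (u := σ (Z s) * σ (Z t) * (σ (Z s))⁻¹)
        (v := σ (Z t)) ?_ ?_ (σp _ (hZp t)))
      · rw [map_mul, map_mul, map_inv, pσ _ (hZp s), pσ _ (hZp t), ← hZ, add_comm, hZ,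
          mul_inv_cancel_right]
      · rw [conj_pow, σp _ (hZp t), mul_one, mul_inv_cancel]
    refine uniq ?_ (σp _ (hZp _)) ?_
    · rw [map_mul, pσ _ (hZp _), pσ _ (hZp s), pσ _ (hZp t), hZ]
    · rw [hc'.mul_pow, σp _ (hZp s), σp _ (hZp t), one_mul]
  let w : F → E := fun t => σ (X t) * σ (Y (-t⁻¹)) * σ (X t)
  have pw : ∀ t, π (w t) = SL2Steinberg.W X Y t := fun t => by
    simp only [w, map_mul, pσ _ (hXp _), pσ _ (hYp _)]
    rfl
  have wx : ∀ t : F, t ≠ 0 → ∀ s, w t * σ (X s) * (w t)⁻¹ = σ (Y (-(t⁻¹ ^ 2 * s))) := by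
    intro t ht s
    refine uniq ?_ (by rw [conj_pow, σp _ (hXp _), mul_one, mul_inv_cancel]) (σp _ (hYp _))
    rw [map_mul, map_mul, map_inv, pw, pσ _ (hXp _), pσ _ (hYp _), SL2Steinberg.W_X R ht]
  have wy : ∀ t : F, t ≠ 0 → ∀ s, w t * σ (Y s) * (w t)⁻¹ = σ (X (-(t ^ 2 * s))) := by
    intro t ht s
    refine uniq ?_ (by rw [conj_pow, σp _ (hYp _), mul_one, mul_inv_cancel]) (σp _ (hXp _))
    rw [map_mul, map_mul, map_inv, pw, pσ _ (hYp _), pσ _ (hXp _), SL2Steinberg.W_Y R ht]
  let D : RootSubgroups.Steinberg.RootData F E :=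
    { x := fun t => σ (X t)
      y := fun t => σ (Y t)
      x_add := lift_add X R.addX hXp
      y_add := lift_add Y R.addY hYp
      braid := fun t ht => by
        have e1 : -(t⁻¹ ^ 2 * t) = -t⁻¹ := by field_simp
        have e2 : -(t ^ 2 * -t⁻¹) = t := by field_simp
        have h1 := wx t ht t
        have h2 := wy t ht (-t⁻¹)
        rw [e1] at h1
        rw [e2] at h2
        calc σ (X t) * σ (Y (-t⁻¹)) * σ (X t) = w t * w t * (w t)⁻¹ := by
              rw [mul_inv_cancel_right]
          _ = (w t * σ (X t) * (w t)⁻¹) * (w t * σ (Y (-t⁻¹)) * (w t)⁻¹) *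
                (w t * σ (X t) * (w t)⁻¹) := by
              conv_lhs => arg 1; arg 2; unfold w
              group
          _ = _ := by rw [h1, h2]
      conj := fun t ht s => by
        have := wx t ht s
        rwa [show t⁻¹ ^ 2 * s = s / t ^ 2 by field_simp] at this }
  set φ := D.hom with hφ
  have hr : (π.comp φ).range = ⊤ := by
    rw [eq_top_iff, ← R.gen, Subgroup.closure_le]
    rintro _ (⟨v, rfl⟩ | ⟨v, rfl⟩)
    · exact ⟨RootSubgroups.SL2.U v, by rw [MonoidHom.comp_apply, hφ, D.hom_U]; exact pσ _ (hXp v)⟩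
    · exact ⟨RootSubgroups.SL2.L v, by rw [MonoidHom.comp_apply, hφ, D.hom_L]; exact pσ _ (hYp v)⟩
  have hcardE : Nat.card E = 2 * Nat.card (ProjectiveSpecialLinearGroup (Fin 2) F) := by
    rw [← π.ker.card_mul_index, hk, Subgroup.index_ker, MonoidHom.range_eq_top.2 hs,
      Subgroup.card_top]
  have hd : Nat.card (ProjectiveSpecialLinearGroup (Fin 2) F) ∣ Nat.card φ.range := by
    have hsur : Function.Surjective (π.comp φ.range.subtype) := fun q => by
      obtain ⟨s, rfl⟩ := (hr ▸ Subgroup.mem_top q : q ∈ (π.comp φ).range)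
      exact ⟨⟨φ s, s, rfl⟩, rfl⟩
    exact Subgroup.card_dvd_of_surjective _ hsur
  have hsurj : Function.Surjective φ := by
    rw [← MonoidHom.range_eq_top, ← Subgroup.index_eq_one]
    obtain ⟨m, hm⟩ := hd
    have h2 := φ.range.card_mul_index
    rw [hcardE, hm, mul_assoc, mul_comm 2] at h2
    have hpos : 0 < Nat.card (ProjectiveSpecialLinearGroup (Fin 2) F) := Nat.card_pos
    have h3 : m * φ.range.index = 2 := Nat.eq_of_mul_eq_mul_left hpos h2
    have h4 : φ.range.index ∣ 2 := Dvd.intro_left m h3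
    exact ((Nat.dvd_prime Nat.prime_two).1 h4).resolve_right (hE _)
  have hcardSL : Nat.card (SpecialLinearGroup (Fin 2) F) =
      2 * Nat.card (ProjectiveSpecialLinearGroup (Fin 2) F) := by
    rw [← (Subgroup.center (SpecialLinearGroup (Fin 2) F)).card_mul_index]
    congr 1
    rw [Linear.card_center_SL, Fintype.card_fin]
    have he : 2 ∣ Fintype.card F - 1 := by
      obtain ⟨j, hj⟩ := hodd; exact ⟨j, by omega⟩
    exact Nat.gcd_eq_left he
  exact ⟨(MulEquiv.ofBijective φ ((Nat.bijective_iff_surjective_and_card φ).2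
    ⟨hsurj, hcardSL.trans hcardE.symm⟩)).symm⟩

end CfsgLib.GWQuasi
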