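import Cfsg.Agent.GWQuasi.Core
import Cfsg.Agent.AutAlt.Basic

/-!
# The normal `SL₂(q)` of a group with a quaternion normal subgroup of 2-power index

Under the Gorenstein–Walter hypothesis, for a group with quasi-dihedral or wreathed Sylow
2-subgroups, trivial odd core and such a normal subgroup, the commutator subgroup is the unique
normal `SL₂(q)`, `q` odd.
-/

set_option autoImplicit false
set_option linter.unusedSectionVars false
set_option linter.style.haveILetI false

namespace CfsgLib.GWQuasi

open Subgroup Matrix
open scoped commutatorElement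

universe u

variable {H : Type u} [Group H] [Finite H]

theorem cycleType_pow_four_eq_one {σ : Equiv.Perm (Fin 7)} {k : ℕ} (h : σ ^ 2 ^ k = 1) :
    σ ^ 4 = 1 := by
  rw [← orderOf_dvd_iff_pow_eq_one, ← Equiv.Perm.lcm_cycleType, Multiset.lcm_dvd]
  intro b hb
  have h1 : b ∣ 2 ^ k := by
    refine (Multiset.dvd_lcm hb).trans ?_
    rw [Equiv.Perm.lcm_cycleType]; exact orderOf_dvd_of_pow_eq_one h
  have h2 : b ≤ 7 := (Equiv.Perm.le_card_support_of_mem_cycleType hb).trans
    ((Finset.card_le_univ _).trans_eq (Fintype.card_fin 7))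
  obtain ⟨j, -, rfl⟩ := (Nat.dvd_prime_pow Nat.prime_two).1 h1
  have : j ≤ 2 := by
    by_contra hj
    have : 2 ^ 3 ≤ 2 ^ j := Nat.pow_le_pow_right two_pos (by omega)
    omega
  exact (show (4 : ℕ) = 2 ^ 2 from rfl) ▸ pow_dvd_pow 2 this

/-- **The normal `SL₂(q)`.** -/
theorem exists_unique_sl2 (h : ∀ m, GW.SimpleHyp.{u} m) (S : Sylow 2 H)
    (hS : Cfsg.IsQuasiDihedral (S : Subgroup H) ∨ Cfsg.IsWreathed (S : Subgroup H))
    (hO : Cfsg.oddCore H = ⊥) (K : Subgroup H) [K.Normal] (ha : ∃ a : ℕ, K.index = 2 ^ a)
    (hK : ∀ M : Subgroup K, M.index ≠ 2)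
    (hP : ∀ P : Sylow 2 K, ∃ m : ℕ, 1 ≤ m ∧
      Nonempty ((P : Subgroup K) ≃* QuaternionGroup (2 ^ m))) :
    ∃ L₀ : Subgroup H, L₀.Normal ∧ IsSL2 L₀ ∧
      (∀ L₁ : Subgroup H, L₁.Normal → IsSL2 L₁ → L₁ = L₀) ∧ commutator H = L₀ := by
  classical
  haveI : Fact (Nat.Prime 2) := ⟨Nat.prime_two⟩
  obtain ⟨a, ha⟩ := ha
  obtain ⟨P, hPS⟩ := exists_sylow_subgroupOf S K
  obtain ⟨m, hm, ⟨e⟩⟩ := hP P
  have hPmem : ∀ x : K, x ∈ (P : Subgroup K) ↔ (x : H) ∈ (S : Subgroup H) := fun x => by
    rw [hPS, mem_subgroupOf]
  have hOK : Cfsg.oddCore K = ⊥ := by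
    have h1 := CfsgLib.PLocal.pPrimeCore_map_subtype_le (p := 2) K
    rw [show Cfsg.pPrimeCore 2 H = ⊥ from hO] at h1
    exact (Subgroup.map_eq_bot_iff_of_injective _ K.subtype_injective).1 (le_bot_iff.1 h1)
  -- the quaternion subgroup inside `S`
  let eQ : K.subgroupOf (S : Subgroup H) ≃* QuaternionGroup (2 ^ m) :=
    MulEquiv.trans
      { toFun := fun q : K.subgroupOf (S : Subgroup H) => (⟨⟨((q : (S : Subgroup H)) : H), q.2⟩, (hPmem _).2 (q : (S : Subgroup H)).2⟩ : (P : Subgroup K))
        invFun := fun p : (P : Subgroup K) =>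
          (⟨⟨((p : K) : H), (hPmem _).1 p.2⟩, (p : K).2⟩ : K.subgroupOf (S : Subgroup H))
        left_inv := fun q => rfl
        right_inv := fun p => rfl
        map_mul' := fun p q => rfl } e
  have h2m : 2 ≤ 2 ^ m := (pow_one 2).symm.le.trans (Nat.pow_le_pow_right two_pos hm)
  obtain ⟨⟨hcomm, hcent⟩, hsq, hfour⟩ := sylow_facts hS (K.subgroupOf (S : Subgroup H)) h2m eQ
  -- `H / K` is abelian
  have hHK : commutator H ≤ K := by
    rw [_root_.commutator_def, commutator_le]
    intro g _ g' _
    obtain ⟨s, hs, k, hk, rfl⟩ := exists_mem_mul_mem S K ha g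
    obtain ⟨s', hs', k', hk', rfl⟩ := exists_mem_mul_mem S K ha g'
    rw [← QuotientGroup.eq_one_iff (N := K), ← QuotientGroup.mk'_apply, map_commutatorElement,
      map_mul, map_mul, show QuotientGroup.mk' K k = 1 from (QuotientGroup.eq_one_iff k).2 hk,
      show QuotientGroup.mk' K k' = 1 from (QuotientGroup.eq_one_iff k').2 hk', mul_one, mul_one,
      ← map_commutatorElement, QuotientGroup.mk'_apply, QuotientGroup.eq_one_iff]
    exact mem_subgroupOf.1 (hcomm (commutator_mem_commutator (mem_top (⟨s, hs⟩ : (S : Subgroup H)))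
      (mem_top ⟨s', hs'⟩)))
  -- the action on the central quotient of `K`
  let act : H →* MulAut (K ⧸ center K) := (autQuot K).comp MulAut.conjNormal
  have hZ := card_center_eq_two P hm e hOK
  have hfix : ∀ s : (S : Subgroup H), act (s : H) = 1 → s ∈ center (S : Subgroup H) := by
    intro s hs
    have h1 : (MulAut.conjNormal (s : H) : MulAut K) = 1 := by
      refine eq_one_of_fix_mod hK (center K) le_rfl hZ _ fun k => ?_
      rw [← QuotientGroup.eq_one_iff, QuotientGroup.mk_mul, QuotientGroup.mk_inv, mul_inv_eq_one]
      exact DFunLike.congr_fun hs (k : K ⧸ center K)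
    refine hcent (mem_centralizer_iff.2 fun q hq => ?_)
    have h2 := congrArg Subtype.val (DFunLike.congr_fun h1 ⟨(q : H), hq⟩)
    rw [MulAut.conjNormal_apply] at h2
    exact Subtype.ext (mul_inv_eq_iff_eq_mul.1 h2).symm
  rcases sl2_or_alt_seven h hK P hm e hOK with ⟨E, F, _, _, hE⟩ | ⟨⟨eX⟩⟩
  swap
  · -- `A₇` is impossible
    exfalso
    obtain ⟨n, rfl⟩ : ∃ n, m = n + 1 := ⟨m - 1, by omega⟩
    have hn : 1 ≤ n := by
      by_contra hn
      obtain rfl : n = 0 := by omega
      have hcardK : Nat.card K = 5040 := by
        rw [← (center K).card_mul_index, hZ, index_eq_card, Nat.card_congr eX.toEquiv,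
          nat_card_alternatingGroup, Nat.card_fin]
        rfl
      have h1 := (P : Subgroup K).card_mul_index
      rw [Nat.card_congr e.toEquiv, Nat.card_eq_fintype_card, QuaternionGroup.card, hcardK] at h1
      norm_num at h1
      exact P.not_dvd_index ⟨315, by omega⟩
    obtain ⟨g, hg⟩ := hfour (by
      calc 4 = 2 ^ 2 := rfl
        _ ≤ 2 ^ (n + 1) := Nat.pow_le_pow_right two_pos (by omega))
    refine hg (hfix _ ?_)
    let eA := MulEquiv.ofBijective _
      (CfsgLib.AutAlt.conjNormal_bijective (α := Fin 7) (by decide) (by decide))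
    let σ : (S : Subgroup H) →* Equiv.Perm (Fin 7) := eA.symm.toMonoidHom.comp
      ((MulAut.congr eX).toMonoidHom.comp (act.comp (S : Subgroup H).subtype))
    obtain ⟨k, hk⟩ := S.isPGroup' g
    have h4 : σ (g * g * (g * g)) = 1 := by
      rw [show g * g * (g * g) = g ^ 4 by simp [pow_succ, mul_assoc], map_pow]
      exact cycleType_pow_four_eq_one (k := k) (by rw [← map_pow, hk, map_one])
    exact (MulEquiv.map_eq_one_iff (MulAut.congr eX)).1 ((MulEquiv.map_eq_one_iff eA.symm).1 h4)
  · haveI := hE.normal
    obtain ⟨eE⟩ := hE.iso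
    let EH := E.map K.subtype
    let eEH : EH ≃* SpecialLinearGroup (Fin 2) F :=
      (E.equivMapOfInjective _ K.subtype_injective).symm.trans eE
    have hEH : EH.Normal := ⟨by
      rintro _ ⟨x, hx, rfl⟩ g
      set a' : MulAut K := MulAut.conjNormal g
      have hn : (E.map a'.toMonoidHom).Normal := hE.normal.map _ a'.surjective
      have hEq : E.map a'.toMonoidHom = E := hE.unique _ hn
        ⟨F, inferInstance, inferInstance, hE.odd,
          ⟨(E.equivMapOfInjective _ a'.injective).symm.trans eE⟩⟩
      exact ⟨a' x, hEq.le ⟨x, hx, rfl⟩, MulAut.conjNormal_apply g x⟩⟩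
    refine ⟨EH, hEH, ⟨F, inferInstance, inferInstance, hE.odd, ⟨eEH⟩⟩, ?_, ?_⟩
    · -- uniqueness
      intro L₁ hL₁ hs
      obtain ⟨F₁, _, _, hodd₁, ⟨e₁⟩⟩ := hs
      have hno : ∀ M : Subgroup L₁, M.index ≠ 2 :=
        no_index_two_map e₁.symm.surjective (f := e₁.symm.toMonoidHom) (sl2_no_index_two hodd₁)
      have hle : L₁ ≤ K := by
        have hd : (K.subgroupOf L₁).index ∣ 2 ^ a := ha ▸ relIndex_dvd_index_of_normal K L₁
        obtain ⟨j, -, hj⟩ := (Nat.dvd_prime_pow Nat.prime_two).1 hd
        exact subgroupOf_eq_top.1 (eq_top_of_pow_two_index hno _ hj)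
      have h1 : L₁.subgroupOf K = E := hE.unique _ (hL₁.subgroupOf K)
        ⟨F₁, inferInstance, inferInstance, hodd₁, ⟨(subgroupOfEquivOfLe hle).trans e₁⟩⟩
      show L₁ = E.map K.subtype
      rw [← h1, subgroupOf_map_subtype, inf_eq_left.2 hle]
    · -- the commutator subgroup
      haveI := hEH
      obtain ⟨p, hp⟩ := CharP.exists F
      haveI : Fact p.Prime := ⟨CharP.char_is_prime F p⟩
      refine le_antisymm ?_ ?_
      · let α : H →* MulAut (SpecialLinearGroup (Fin 2) F) :=
          (MulAut.congr eEH).toMonoidHom.comp (MulAut.conjNormal (H := EH))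
        let f := (QuotientGroup.mk' (Cfsg.Inn (ProjectiveSpecialLinearGroup (Fin 2) F))).comp
          (AutPSL.toPSLAut.comp α)
        rw [_root_.commutator_def, commutator_le]
        intro g _ g' _
        have hcK : ⁅g, g'⁆ ∈ K := hHK (commutator_mem_commutator (mem_top g) (mem_top g'))
        have h1 : f ⁅g, g'⁆ = 1 := by
          rw [map_commutatorElement, commutatorElement_eq_one_iff_mul_comm]
          exact out_psl_comm hE.odd _ _
        generalize ⁅g, g'⁆ = c at hcK h1 ⊢
        simp only [f, MonoidHom.comp_apply, QuotientGroup.mk'_apply, QuotientGroup.eq_one_iff] at h1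
        obtain ⟨s, hs⟩ := h1
        obtain ⟨t, rfl⟩ := QuotientGroup.mk_surjective s
        have h2 : MulAut.conj t = α c := AutPSL.toPSLAut_injective p (by
          rw [AutPSL.toPSLAut_conj]; exact hs)
        set e0 : EH := eEH.symm t with he0
        obtain ⟨e0', he0', he0eq⟩ := e0.2
        have key : ∀ y : H, y ∈ EH → ((e0 : H))⁻¹ * c * y = y * ((e0 : H)⁻¹ * c) := by
          intro y hy
          have h3 := congrArg (fun b : MulAut (SpecialLinearGroup (Fin 2) F) =>
            ((eEH.symm (b (eEH ⟨y, hy⟩)) : EH) : H)) h2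
          simp [α, MulAut.congr, MulAut.conj] at h3
          calc ((e0 : H))⁻¹ * c * y = (e0 : H)⁻¹ * (c * y * c⁻¹) * c := by group
            _ = y * ((e0 : H)⁻¹ * c) := by rw [← h3, he0]; group
        have h4 : e0'⁻¹ * ⟨c, hcK⟩ ∈ center K := by
          refine hE.centralizer_le _ fun y hy => Subtype.ext ?_
          have := key y ⟨y, hy, rfl⟩
          rw [← he0eq] at this
          exact this
        refine ⟨⟨c, hcK⟩, ?_, rfl⟩
        have := mul_mem he0' (hE.center_le h4)
        rwa [mul_inv_cancel_left] at this
      · rcases (three_le_card hE.odd).eq_or_lt with hq | hq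
        · -- `q = 3`
          have hEtop := hE.top_of_three hq.symm
          have hK24 : Nat.card K = 24 := by
            rw [← card_top (G := K), ← hEtop, Nat.card_congr eE.toEquiv, Linear.card_SL_two, ← hq]
            norm_num
          set D := (commutator H).subgroupOf K with hD
          haveI : D.Normal := Normal.subgroupOf inferInstance K
          have hKD : commutator K ≤ D := by
            rw [_root_.commutator_def, commutator_le]
            intro x _ y _
            show ((⁅x, y⁆ : K) : H) ∈ commutator H
            exact commutator_mem_commutator (mem_top _) (mem_top _)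
          suffices hDtop : D = ⊤ by
            rintro _ ⟨x, -, rfl⟩
            exact mem_subgroupOf.1 (hDtop.ge (mem_top x) : x ∈ D)
          by_contra hDne
          have hodd := odd_index_of_commutator_le hK D hKD
          have hPD : (P : Subgroup K) ≤ D := le_of_odd_index D hodd P.isPGroup'
          have hD1 : 2 ≤ D.index := by
            have h0 : D.index ≠ 0 := index_ne_zero_of_finite
            have h1 : D.index ≠ 1 := fun h1 => hDne (index_eq_one.1 h1)
            omega
          have hPcard : Nat.card (P : Subgroup K) = 4 * 2 ^ m := by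
            rw [Nat.card_congr e.toEquiv, Nat.card_eq_fintype_card, QuaternionGroup.card]
          have hPd : 4 * 2 ^ m ∣ 24 := by
            rw [← hPcard, ← hK24]; exact card_subgroup_dvd_card _
          obtain rfl : m = 1 := by
            by_contra hm1
            have h16 : 16 ∣ 4 * 2 ^ m :=
              Nat.mul_dvd_mul_left 4 (pow_dvd_pow 2 (show 2 ≤ m by omega) : 2 ^ 2 ∣ 2 ^ m)
            exact absurd (h16.trans hPd) (by norm_num)
          have hDP : D = (P : Subgroup K) := by
            refine (eq_of_le_of_card_ge hPD ?_).symm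
            have h1 := D.card_mul_index
            have h2 := Subgroup.card_le_of_le hPD
            have h3 := Subgroup.card_dvd_of_le hPD
            rw [hPcard] at h2 h3 ⊢
            rw [hK24] at h1
            obtain ⟨c, hc⟩ := h3
            rw [hc, mul_assoc] at h1
            have h4 : c * D.index = 3 := by omega
            rcases (Nat.dvd_prime Nat.prime_three).1 (Dvd.intro _ h4) with rfl | rfl
            · omega
            · omega
          have hQ4 : ∀ x : QuaternionGroup (2 ^ 1), x ^ 4 = 1 := by decide +kernel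
          have hP4 : ∀ x ∈ (P : Subgroup K), x ^ 4 = 1 := fun x hx => by
            have := e.injective ((map_pow e ⟨x, hx⟩ 4).trans ((hQ4 _).trans (map_one e).symm))
            exact congrArg Subtype.val this
          obtain ⟨g, hg⟩ := hsq
          refine hg (hfix _ ?_)
          obtain ⟨eP4⟩ := Cfsg.Agent.S0251.result (F := F) hq.symm
          obtain ⟨n, hn⟩ := S.isPGroup' g
          -- identify the central quotient with `A₄`
          have hker : center K = (eP4.toMonoidHom.comp ((QuotientGroup.mk' _).comp
              ((eE.toMonoidHom.comp (inclusion (hEtop.ge : ⊤ ≤ E))).comp topEquiv.symm.toMonoidHom))).ker := by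
            set π := eP4.toMonoidHom.comp ((QuotientGroup.mk' _).comp
              ((eE.toMonoidHom.comp (inclusion (hEtop.ge : ⊤ ≤ E))).comp topEquiv.symm.toMonoidHom))
            ext x
            have hcS : ∀ y : SpecialLinearGroup (Fin 2) F,
                y ∈ center (SpecialLinearGroup (Fin 2) F) ↔ ∀ z, z * y = y * z := fun y => mem_center_iff
            rw [MonoidHom.mem_ker, MonoidHom.comp_apply, MulEquiv.coe_toMonoidHom,
              MulEquiv.map_eq_one_iff, MonoidHom.comp_apply, QuotientGroup.mk'_apply,
              QuotientGroup.eq_one_iff, mem_center_iff, hcS]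
            refine ⟨fun hx z => ?_, fun hx z => ?_⟩
            · obtain ⟨⟨z', hz'⟩, rfl⟩ := eE.surjective z
              simp only [MonoidHom.comp_apply, MulEquiv.coe_toMonoidHom, ← map_mul]
              exact congrArg eE (Subtype.ext (hx z'))
            · have := hx (eE (inclusion (hEtop.ge : ⊤ ≤ E) (topEquiv.symm z)))
              simp only [MonoidHom.comp_apply, MulEquiv.coe_toMonoidHom, ← map_mul] at this
              exact congrArg Subtype.val (eE.injective this)
          let eX : K ⧸ center K ≃* alternatingGroup (Fin 4) :=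
            (QuotientGroup.quotientMulEquivOfEq hker).trans
              (QuotientGroup.quotientKerEquivOfSurjective _ (by
                refine eP4.surjective.comp (QuotientGroup.mk'_surjective _ |>.comp ?_)
                intro y
                obtain ⟨⟨y', hy'⟩, rfl⟩ := eE.surjective y
                exact ⟨y', rfl⟩))
          let eA := MulEquiv.ofBijective _
            (CfsgLib.AutAlt.conjNormal_bijective (α := Fin 4) (by decide) (by decide))
          let σ : (S : Subgroup H) →* Equiv.Perm (Fin 4) := eA.symm.toMonoidHom.comp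
            ((MulAut.congr eX).toMonoidHom.comp (act.comp (S : Subgroup H).subtype))
          have h8 : σ g ^ 8 = 1 := by
            rw [← orderOf_dvd_iff_pow_eq_one]
            have h1 : orderOf (σ g) ∣ 2 ^ n :=
              orderOf_dvd_of_pow_eq_one (by rw [← map_pow, hn, map_one])
            have h2 : orderOf (σ g) ∣ 24 := by
              refine (_root_.orderOf_dvd_natCard _).trans ?_
              rw [Nat.card_perm, Nat.card_fin]
              decide
            obtain ⟨j, -, hj⟩ := (Nat.dvd_prime_pow Nat.prime_two).1 h1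
            rw [hj] at h2 ⊢
            have : j ≤ 3 := by
              by_contra hj3
              exact absurd ((pow_dvd_pow 2 (show 4 ≤ j by omega)).trans h2) (by norm_num)
            exact (show (8 : ℕ) = 2 ^ 3 from rfl) ▸ pow_dvd_pow 2 this
          have h2 : σ (g * g) = 1 := by
            rw [map_mul]
            refine sigma_sq_of_comm (σ g) h8 fun b hb => ?_
            obtain ⟨x, hx⟩ := eX.surjective ⟨b, Equiv.Perm.mem_alternatingGroup.2 hb⟩
            obtain ⟨k, rfl⟩ := QuotientGroup.mk'_surjective (center K) x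
            set k' : K := MulAut.conjNormal (g : H) k * k⁻¹ with hk'
            have hmem : k' ∈ (P : Subgroup K) := by
              rw [← hDP, hD, mem_subgroupOf, hk', Subgroup.coe_mul, Subgroup.coe_inv,
                MulAut.conjNormal_apply, ← commutatorElement_def]
              exact commutator_mem_commutator (mem_top _) (mem_top _)
            have h1 : (eX (k' : K ⧸ center K) : Equiv.Perm (Fin 4)) =
                σ g * b * (σ g)⁻¹ * b⁻¹ := by
              have h3 : (MulAut.conjNormal (σ g) : MulAut (alternatingGroup (Fin 4))) =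
                  MulAut.congr eX (act g) := eA.apply_symm_apply _
              have h5 := congrArg (fun c : MulAut (alternatingGroup (Fin 4)) =>
                ((c (eX (k : K ⧸ center K)) : alternatingGroup (Fin 4)) : Equiv.Perm (Fin 4))) h3
              rw [MulAut.conjNormal_apply] at h5
              rw [hk', QuotientGroup.mk_mul, QuotientGroup.mk_inv, map_mul, map_inv, Subgroup.coe_mul,
                Subgroup.coe_inv]
              rw [QuotientGroup.mk'_apply] at hx
              rw [hx] at h5 ⊢
              simp only at h5 ⊢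
              rw [h5]
              simp [MulAut.congr, act, autQuot_mk, ← hx]
            rw [← h1, ← SubmonoidClass.coe_pow, ← map_pow, ← QuotientGroup.mk_pow, hP4 k' hmem,
              QuotientGroup.mk_one, map_one, coe_one]
          exact (MulEquiv.map_eq_one_iff (MulAut.congr eX)).1 ((MulEquiv.map_eq_one_iff eA.symm).1 h2)
        · rintro _ ⟨x, hx, rfl⟩
          exact le_commutator_of_sl2 EH hq eEH ⟨x, hx, rfl⟩

end CfsgLib.GWQuasi
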