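import Cfsg.Agent.GWQuasi.Main
import Cfsg.Agent.TwoGroups.NoIndexTwo
import Cfsg.Agent.TwoGroups.GLTwoType

/-!
# Involution centralizers modulo the odd core in groups with quasi-dihedral or wreathed Sylow
2-subgroups
-/

set_option autoImplicit false
set_option linter.unusedSectionVars false
set_option linter.style.haveILetI false

namespace CfsgLib.GWQuasi

open Subgroup Matrix

universe u

theorem qd_or_wreathed_congr {S S' : Type*} [Group S] [Group S'] (e : S ≃* S')
    (h : Cfsg.IsQuasiDihedral S ∨ Cfsg.IsWreathed S) :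
    Cfsg.IsQuasiDihedral S' ∨ Cfsg.IsWreathed S' := by
  rcases h with ⟨n, hn, hc, x, y, hx, hy, hxy⟩ | h
  · exact Or.inl ⟨n, hn, (Nat.card_congr e.toEquiv).symm.trans hc, e x, e y,
      (MulEquiv.orderOf_eq e x).trans hx, (MulEquiv.orderOf_eq e y).trans hy,
      by rw [← map_inv, ← map_mul, ← map_mul, hxy, map_pow]⟩
  · exact Or.inr (TwoGroups.isWreathed_of_equiv h e)

variable {G : Type u} [Group G] [Finite G]

/-- A 2-subgroup maps isomorphically modulo a normal subgroup of odd order. -/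
theorem nonempty_equiv_map_mk (N : Subgroup G) [N.Normal] (hN : (Nat.card N).Coprime 2)
    (P : Subgroup G) (hP : IsPGroup 2 P) :
    Nonempty (P ≃* P.map (QuotientGroup.mk' N)) := by
  haveI : Fact (Nat.Prime 2) := ⟨Nat.prime_two⟩
  refine ⟨MulEquiv.ofBijective ((QuotientGroup.mk' N).subgroupMap P)
    ⟨?_, (QuotientGroup.mk' N).subgroupMap_surjective _⟩⟩
  rw [injective_iff_map_eq_one]
  intro s hs
  exact Subtype.ext (Subgroup.mem_bot.1
    ((CfsgLib.PLocal.disjoint_of_isPGroup_of_coprime (p := 2) hP hN).le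
      (mem_inf.2 ⟨s.2, (QuotientGroup.eq_one_iff (N := N) (s : G)).1 (congrArg Subtype.val hs)⟩)))

/-- The commutator subgroup of an involution centralizer modulo its odd core is `SL₂(q)`. -/
theorem commutator_centralizer_mod_core (h : ∀ m, GW.SimpleHyp.{u} m) (S : Sylow 2 G)
    (hS : Cfsg.IsQuasiDihedral (S : Subgroup G) ∨ Cfsg.IsWreathed (S : Subgroup G))
    (hG : ∀ H : Subgroup G, H.index ≠ 2) {t : G} (ht : orderOf t = 2) :
    IsSL2 ↥(commutator (↥(centralizer ({t} : Set G)) ⧸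
      Cfsg.oddCore ↥(centralizer ({t} : Set G)))) := by
  haveI : Fact (Nat.Prime 2) := ⟨Nat.prime_two⟩
  obtain ⟨R, hR, ⟨K, hKn, ⟨a, ha⟩, hK, hP⟩, -⟩ :=
    TwoGroups.centralizerShape_of_no_index_two S hS hG ht
  generalize centralizer ({t} : Set G) = C at R hR K hKn a ha hK hP ⊢
  haveI := hKn
  set O := Cfsg.oddCore ↥C with hO
  haveI hOn : O.Normal := inferInstanceAs (Cfsg.oddCore ↥C).Normal
  have hOc : (Nat.card O).Coprime 2 := Nat.coprime_two_right.2 CfsgLib.Inv54.odd_card_oddCore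
  set π := QuotientGroup.mk' O with hπdef
  have hπ : Function.Surjective π := QuotientGroup.mk'_surjective O
  -- the Sylow subgroup
  obtain ⟨eR⟩ := nonempty_equiv_map_mk O hOc R R.isPGroup'
  let eS : (S : Subgroup G) ≃* (R : Subgroup ↥C) :=
    (Sylow.equiv S (Sylow.ofCard ((R : Subgroup ↥C).map C.subtype) (by
      rw [← Nat.card_congr ((R : Subgroup ↥C).equivMapOfInjective _ C.subtype_injective).toEquiv,
        hR, S.card_eq_multiplicity]))).trans
      ((MulEquiv.subgroupCongr (Sylow.coe_ofCard _ _)).trans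
        ((R : Subgroup ↥C).equivMapOfInjective _ C.subtype_injective).symm)
  have hS' := qd_or_wreathed_congr
    ((eS.trans eR).trans (MulEquiv.subgroupCongr (Sylow.coe_mapSurjective hπ R).symm)) hS
  haveI : (K.map π).Normal := hKn.map π hπ
  obtain ⟨b, -, hb⟩ := (Nat.dvd_prime_pow Nat.prime_two).1 (ha ▸ K.index_map_dvd hπ)
  have hKs := π.subgroupMap_surjective K
  have hker : (Nat.card ((π.subgroupMap K).ker)).Coprime 2 := by
    refine Nat.Coprime.coprime_dvd_left ?_ hOc
    have hle : (π.subgroupMap K).ker.map K.subtype ≤ O := by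
      rintro _ ⟨x, hx, rfl⟩
      exact (QuotientGroup.eq_one_iff _).1 (congrArg Subtype.val (MonoidHom.mem_ker.1 hx))
    rw [Nat.card_congr ((π.subgroupMap K).ker.equivMapOfInjective _ K.subtype_injective).toEquiv]
    exact card_dvd_of_le hle
  have hP' : ∀ P' : Sylow 2 (K.map π), ∃ m : ℕ, 1 ≤ m ∧
      Nonempty ((P' : Subgroup (K.map π)) ≃* QuaternionGroup (2 ^ m)) := by
    intro P'
    obtain ⟨P, rfl⟩ := Sylow.mapSurjective_surjective hKs 2 P'
    obtain ⟨m, hm, ⟨e⟩⟩ := hP P
    have hinj : Function.Injective ((π.subgroupMap K).subgroupMap (P : Subgroup K)) := by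
      rw [injective_iff_map_eq_one]
      intro s hs
      exact Subtype.ext (Subgroup.mem_bot.1
        ((CfsgLib.PLocal.disjoint_of_isPGroup_of_coprime (p := 2) P.isPGroup' hker).le
          (mem_inf.2 ⟨s.2, MonoidHom.mem_ker.2 (congrArg Subtype.val hs)⟩)))
    exact ⟨m, hm, ⟨(MulEquiv.subgroupCongr (Sylow.coe_mapSurjective hKs P)).trans
      ((MulEquiv.ofBijective _ ⟨hinj, (π.subgroupMap K).subgroupMap_surjective _⟩).symm.trans e)⟩⟩
  obtain ⟨L, -, hL, -, hcomm⟩ := exists_unique_sl2 h (R.mapSurjective hπ) hS'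
    (CfsgLib.PLocal.pPrimeCore_quotient_pPrimeCore_eq_bot 2 ↥C) (K.map π) ⟨b, hb⟩
    (no_index_two_map hKs hK) hP'
  exact hL.of_equiv (MulEquiv.subgroupCongr hcomm.symm)

end CfsgLib.GWQuasi
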